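import Cfsg.Agent.H21.Top
import Cfsg.Agent.BG.Fcore
import Cfsg.Agent.H1.Frobenius
import Cfsg.Prelude.Def_LieExceptional

/-! CN-groups, ambient form. -/

set_option autoImplicit false
set_option linter.style.haveILetI false

namespace Cfsg.Agent.BG

open Subgroup Cfsg.Agent.H20 Cfsg.Agent.H21
open scoped commutatorElement

universe u

variable {G : Type*} [Group G] [Finite G] {A B C D E H K L M N P Q R S V : Subgroup G} {p q : ℕ}

/-- `H` is a CN-group. -/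
def CNOf (H : Subgroup G) : Prop := ∀ x ∈ H, x ≠ 1 → Group.IsNilpotent ↥(H ⊓ C₁⟦x⟧)

omit [Finite G] in
theorem cnOf_iff : CNOf H ↔ IsCNGroup H := by
  have key : ∀ x : H, Group.IsNilpotent ↥(H ⊓ C₁⟦(x : G)⟧) ↔ Group.IsNilpotent ↥(C₁⟦x⟧) := fun x => by
    rw [← isNilpotent_map_iff H.subtype_injective (A := C₁⟦x⟧), ← top_inf_eq C₁⟦x⟧,
      map_inf_cent1 H.subtype_injective, map_top_subtype]
    rfl
  exact ⟨fun h x hx => (key x).1 (h x x.2 fun e => hx (Subtype.ext e)),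
    fun h x hx h1 => (key ⟨x, hx⟩).2 (h _ fun e => h1 (congrArg Subtype.val e))⟩

omit [Finite G] in
theorem cnOf_top : CNOf (⊤ : Subgroup G) ↔ IsCNGroup G :=
  ⟨fun h x hx => top_inf_eq C₁⟦x⟧ ▸ h x trivial hx, fun h x _ hx => (top_inf_eq C₁⟦x⟧).symm ▸ h x hx⟩

omit [Finite G] in
theorem isCNGroup_of_equiv {X Y : Type*} [Group X] [Group Y] (e : X ≃* Y) (h : IsCNGroup X) : IsCNGroup Y := by
  intro y hy
  obtain ⟨x, rfl⟩ := e.surjective y
  have h1 := (isNilpotent_map_iff (f := e.toMonoidHom) e.injective).2 (cnOf_top.2 h x trivial (by simpa using hy))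
  rwa [map_inf_cent1 e.injective, map_top_of_surjective _ e.surjective, top_inf_eq] at h1

omit [Finite G] in
theorem CNOf.of_le (h : CNOf H) (hK : K ≤ H) : CNOf K :=
  fun x hx h1 => nil_of_le (h x (hK hx) h1) (inf_le_inf_right _ hK)

omit [Finite G] in
theorem CNOf.nil (h : CNOf H) {x : G} (hx : x ∈ H) (h1 : x ≠ 1) (hK : K ≤ H) (hc : K ≤ C₁⟦x⟧) :
    Group.IsNilpotent K := nil_of_le (h x hx h1) (le_inf hK hc)

omit [Finite G] in
theorem CNOf.nil_of_cent (h : CNOf H) (hA : A ≤ H) (h1 : A ≠ ⊥) (hK : K ≤ H) (hc : K ≤ C⟦A⟧) :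
    Group.IsNilpotent K := by
  obtain ⟨x, hx, hx1⟩ := exists_ne_one h1
  exact h.nil (hA hx) hx1 hK (hc.trans (cent_le_cent1 hx))

theorem CNOf.cent_aux (h : CNOf H) (hP : P ≤ H) (hQ : Q ≤ H) (hc : (♯P).Coprime (♯Q)) (h1 : A ≠ ⊥)
    (hA : A ≤ H) (h2 : P ≤ C⟦A⟧) (h3 : Q ≤ C⟦A⟧) : P ≤ C⟦Q⟧ :=
  cent_of_nil_coprime (h.nil_of_cent hA h1 inf_le_left inf_le_right) (le_inf hP h2) (le_inf hQ h3) hc

/-- in a CN-group, nilpotent subgroups of coprime orders with commuting nontrivial subgroups commute. -/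
theorem CNOf.cent (h : CNOf H) (hP : P ≤ H) (hQ : Q ≤ H) (hPn : Group.IsNilpotent P)
    (hQn : Group.IsNilpotent Q) (hc : (♯P).Coprime (♯Q)) (hA : A ≤ P) (hB : B ≤ Q) (hA1 : A ≠ ⊥) (hB1 : B ≠ ⊥)
    (hAB : A ≤ C⟦B⟧) : P ≤ C⟦Q⟧ := by
  obtain ⟨x, hx, hx1⟩ := exists_ne_one hA1
  obtain ⟨y, hy, hy1⟩ := exists_ne_one hB1
  have hx' := zpowers_le.2 hx
  have hy' := zpowers_le.2 hy
  have hxy : zpowers y ≤ C⟦zpowers x⟧ := cent_symm (hx'.trans (hAB.trans (cent_anti hy')))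
  have hZP := center_ne_bot_of_nil hPn (ne_bot_of_mem (hA hx) hx1)
  have hZQ := center_ne_bot_of_nil hQn (ne_bot_of_mem (hB hy) hy1)
  have h1 : P ⊓ C⟦P⟧ ≤ C⟦zpowers y⟧ := h.cent_aux (inf_le_left.trans hP) (hy'.trans (hB.trans hQ))
    (coprime_of_le hc inf_le_left (hy'.trans hB)) (zpowers_ne_bot.2 hx1) (hx'.trans (hA.trans hP))
    (inf_le_right.trans (cent_anti (hx'.trans hA))) hxy
  have h2 : P ⊓ C⟦P⟧ ≤ C⟦Q ⊓ C⟦Q⟧⟧ := h.cent_aux (inf_le_left.trans hP) (inf_le_left.trans hQ)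
    (coprime_of_le hc inf_le_left inf_le_left) (zpowers_ne_bot.2 hy1) (hy'.trans (hB.trans hQ)) h1
    (inf_le_right.trans (cent_anti (hy'.trans hB)))
  have h3 : P ≤ C⟦Q ⊓ C⟦Q⟧⟧ := h.cent_aux hP (inf_le_left.trans hQ) (coprime_of_le_right hc inf_le_left) hZP
    (inf_le_left.trans hP) (cent_symm inf_le_right) (cent_symm h2)
  exact h.cent_aux hP hQ hc hZQ (inf_le_left.trans hQ) h3 (cent_symm inf_le_right)

theorem CNOf.cent_pq [Fact p.Prime] [Fact q.Prime] (h : CNOf H) (hP : P ≤ H) (hQ : Q ≤ H) (hPp : IsPGroup p P)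
    (hQq : IsPGroup q Q) (hpq : p ≠ q) (hA : A ≤ P) (hB : B ≤ Q) (hA1 : A ≠ ⊥) (hB1 : B ≠ ⊥)
    (hAB : A ≤ C⟦B⟧) : P ≤ C⟦Q⟧ :=
  h.cent hP hQ hPp.isNilpotent hQq.isNilpotent (coprime_of_isPGroup_ne hPp hQq hpq) hA hB hA1 hB1 hAB

theorem exists_pow_prime_order {x : G} (h : x ≠ 1) : ∃ y ∈ zpowers x, (orderOf y).Prime := by
  obtain ⟨p, hp, hd⟩ := exists_prime_dvd_card (zpowers_ne_bot.2 h)
  obtain ⟨y, hy, e⟩ := exists_prime_order_mem hp hd
  exact ⟨y, hy, e ▸ hp⟩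

omit [Finite G] in
theorem cnOf_of_prime [Finite G] (h : ∀ X ≤ H, (♯X).Prime → Group.IsNilpotent ↥(H ⊓ C⟦X⟧)) : CNOf H := by
  intro x hx h1
  obtain ⟨X, hX, hp⟩ := exists_prime_subgroup_of_ne_bot (zpowers_ne_bot.2 h1)
  exact nil_of_le (h X (hX.trans (zpowers_le.2 hx)) hp) (inf_le_inf_left _ (cent_zpowers x ▸ cent_anti hX))

/-- a `p`-element centralizing a `p'`-element modulo a `p`-group. -/
theorem exists_cent_of_quo_cent [Fact p.Prime] (hV : IsPGroup p V) (hK : V ⊴ K) (hlt : ¬ K ≤ V)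
    (hQ : Q ≤ N⟦V⟧) (hc : (♯Q).Coprime p) (h : ⁅K, Q⁆ ≤ V) : K ⊓ C⟦Q⟧ ≠ ⊥ := fun h1 => by
  have := coprime_sup_cent_of_commg_le hK.le hQ (coprime_of_isPGroup hV hc) (Or.inr (sol_of_pgroup hV)) h
  rw [h1, sup_bot_eq] at this
  exact hlt this.ge

theorem CNOf.quo_pgroup [hp : Fact p.Prime] (h : CNOf H) (hV : V ⊴ H) (hpV : IsPGroup p V) :
    CNOf (quo H V) := by
  refine cnOf_of_prime fun Y hY hY1 => ?_
  obtain ⟨K, hVK, hKH, rfl⟩ := exists_quo_eq hV hY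
  have hVK' := hV.of_le hVK hKH
  by_cases hr : ♯(quo K V) = p
  · have hK : IsPGroup p K := isPi_singleton_iff.1 ((isPi_singleton_iff.2 hpV).of_relIndex
      (by rw [← card_quo hVK'.norm, hr]; exact (PiNat.prime_iff hp.out).2 rfl))
    obtain ⟨C, hVC, hCH, hC⟩ := exists_quo_eq (X := quo H V ⊓ C⟦quo K V⟧) hV inf_le_left
    rw [← hC]
    refine quo_nilpotent ?_ V
    have hKC : K ≤ C := (quo_le_quo_iff_of_le hVK'.norm hVC).1
      (hC ▸ le_inf hY (comm_le_cent (comm_of_cyclic (isCyclic_of_card_prime hY1))))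
    have hlt : ¬ K ≤ V := fun h => ne_bot_of_card_prime hY1 (quo_eq_bot h)
    obtain ⟨P, hP, hKP⟩ := exists_sylowOf_ge hK hKC
    obtain ⟨z, hz, hz1⟩ := exists_ne_one (center_ne_bot_of_nil hP.isPGroup.isNilpotent
      fun h => hlt (hKP.trans (h ▸ bot_le)))
    refine h.nil (hCH (hP.le hz.1)) hz1 hCH (le_of_forall_sylow fun q hq hd => ?_)
    by_cases hqp : q = p
    · subst hqp; exact ⟨P, hP, le_cent1_iff.2 hz.2⟩
    haveI := Fact.mk hq
    obtain ⟨Q, hQ⟩ := exists_sylowOf (p := q) C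
    have hQN := hQ.le.trans (hCH.trans hV.norm)
    refine ⟨Q, hQ, le_cent1_iff.2 (h.cent_pq (hP.le.trans hCH) (hQ.le.trans hCH) hP.isPGroup hQ.isPGroup
      (Ne.symm hqp) (inf_le_left.trans hKP) le_rfl (exists_cent_of_quo_cent hpV hVK' hlt hQN
        (coprime_of_isPGroup hQ.isPGroup ((Nat.coprime_primes hp.out hq).2 (Ne.symm hqp))) ?_)
      (hQ.sylow_ne_bot hd) inf_le_right hz.1)⟩
    rw [← quo_le_cent_iff hVK'.norm hQN]
    exact cent_symm ((quo_mono V hQ.le).trans (hC ▸ inf_le_right))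
  · have hc : (♯V).Coprime (V.relIndex K) := coprime_of_isPGroup hpV
      (card_quo hVK'.norm ▸ (Nat.coprime_primes hY1 hp.out).2 hr)
    obtain ⟨X, hX⟩ := exists_compl_of_coprime hVK' hc
    have hX1 := hX.relIndex_left
    rw [← quo_eq_of_compl hVK' hX, ← coprime_quo_cent hV.le (hX.right_le.trans hVK'.norm) (hX1 ▸ hc)
      (Or.inr (sol_of_pgroup hpV))]
    exact quo_nilpotent (h.nil_of_cent (hX.right_le.trans hKH) (ne_bot_of_card_prime
      (hX1 ▸ card_quo hVK'.norm ▸ hY1)) inf_le_left inf_le_right) V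

theorem CNOf.quo_aux (n : ℕ) : ∀ {G : Type u} [Group G] [Finite G] {H N : Subgroup G}, ♯N = n → CNOf H →
    N ⊴ H → Group.IsSolvable N → CNOf (quo H N) := by
  induction n using Nat.strong_induction_on with | _ n ih =>
  intro G _ _ H N hn h hN hs
  by_cases h1 : N = ⊥
  · subst h1
    exact cnOf_iff.2 (isCNGroup_of_equiv (quoBotEquiv H) (cnOf_iff.1 h))
  obtain ⟨p, V, hp, hV, h2, h3, h4⟩ := exists_elem_normalIn hN hs h1
  haveI := Fact.mk hp
  obtain ⟨e⟩ := thirdIso (A := H) h2 (sup_le h3.norm (hN.le.trans h3.norm)) hN.norm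
  exact cnOf_iff.2 (isCNGroup_of_equiv e (cnOf_iff.1 (ih _ (hn ▸ card_quo_lt (h3.of_le h2 hN.le) hV.1) rfl
    (h.quo_pgroup h3 (isPGroup_of_elem h4)) (hN.quo V) (quo_solvable hs V))))

theorem CNOf.quo (h : CNOf H) (hN : N ⊴ H) (hs : Group.IsSolvable N) : CNOf (quo H N) :=
  CNOf.quo_aux _ rfl h hN hs

/-- a Frobenius complement in a CN-group is nilpotent. -/
theorem CNOf.nil_of_regular (h : CNOf H) (hE : E ≤ H) (hK : K ≠ ⊥) (hn : E ≤ N⟦K⟧) (hr : Semiregular K E) :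
    Group.IsNilpotent E := by
  by_cases h1 : E = ⊥
  · subst h1; infer_instance
  refine h.nil_of_cent (inf_le_left.trans hE) (A := E ⊓ C⟦E⟧) ?_ hE (cent_symm inf_le_right)
  rw [← map_center, Ne, map_eq_bot_iff_inj E.subtype_injective]
  exact H1.center_ne_bot_of_fpf hK h1 hn hr

/-- a `q`-subgroup that centralizes a nontrivial normal subgroup of a CN-group lies in `O_q`. -/
theorem CNOf.le_pCoreOf [Fact q.Prime] (h : CNOf H) (hR : R ⊴ H) (h1 : R ≠ ⊥) (hQ : IsPGroup q Q)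
    (hle : Q ≤ H) (hc : Q ≤ C⟦R⟧) : Q ≤ piCoreOf {q} H :=
  le_pCoreOf_of_le_fittingOf ((le_inf hle hc).trans
    (le_fittingOf hR.cent (h.nil_of_cent hR.le h1 inf_le_left inf_le_right))) hQ

theorem CNOf.regular_Fcore (h : CNOf H) (hE : IsComplIn (fittingHallOf H) E H) :
    Semiregular (fittingHallOf H) E := by
  have hc : (♯(fittingHallOf H)).Coprime (♯E) := hE.relIndex_left ▸ (Fcore_isHallOf H).2
  refine semiregular_of_prime_subgroups fun X hX hq => ?_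
  by_contra h1
  obtain ⟨Y, hY, hr⟩ := exists_prime_subgroup_of_ne_bot h1
  haveI := Fact.mk hq
  haveI := Fact.mk hr
  obtain ⟨Q, hQ, hXQ⟩ := exists_sylowOf_ge (isPGroup_of_card_prime rfl) (hX.trans hE.right_le)
  have hYK := hY.trans inf_le_left
  have hYR : Y ≤ piCoreOf {♯Y} H :=
    le_pCoreOf_of_le_fittingOf (hYK.trans (Fcore_le_fitting H)) (isPGroup_of_card_prime rfl)
  have hY1 := ne_bot_of_card_prime hr
  have h2 := h.le_pCoreOf (piCoreOf_normalIn {♯Y} H) (fun e => hY1 (le_bot_iff.1 (e ▸ hYR))) hQ.isPGroup hQ.le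
    (h.cent_pq hQ.le (piCoreOf_le _ _) hQ.isPGroup (isPGroup_piCoreOf _ H)
      ((Nat.coprime_primes hq hr).1 (coprime_of_le hc hYK hX).symm) hXQ hYR (ne_bot_of_card_prime hq) hY1
      (cent_symm (hY.trans inf_le_right)))
  have h3 := pcore_le_Fcore (hQ.of_ge (piCoreOf_le _ _) (isPi_piCoreOf _ _) h2)
  exact ne_bot_of_card_prime hq (eq_bot_iff.2 (hE.inf_eq ▸ le_inf (hXQ.trans (h2.trans h3)) hX))

theorem Fcore_top : fittingHallOf (⊤ : Subgroup G) = fittingHall G := by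
  rw [Fcore_eq_sSup, fittingHall]
  congr 1
  ext N
  simp [IsHallOf, normalIn_top_iff]

theorem CNOf.frob_Fcore (h : CNOf H) (hn : ¬ Group.IsNilpotent H) (h1 : fittingHallOf H ≠ ⊥) :
    ∃ E, Frob H (fittingHallOf H) E ∧ Group.IsNilpotent E := by
  obtain ⟨E, hE⟩ := (Fcore_Hall H).exists_compl (Fcore_normalIn H)
  have hr := h.regular_Fcore hE
  refine ⟨E, ⟨⟨hE, (Fcore_normalIn H).norm⟩, h1, fun h2 => hn ?_, hr⟩,
    h.nil_of_regular hE.right_le h1 (hE.right_le.trans (Fcore_normalIn H).norm) hr⟩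
  have := hE.sup_eq
  rw [h2, sup_bot_eq] at this
  exact this ▸ Fcore_nil H

/-- the structure of nilpotent Frobenius complements. -/
theorem nil_regular_structure (hE : Group.IsNilpotent E) (hK : K ≠ ⊥) (hn : E ≤ N⟦K⟧) (hr : Semiregular K E) :
    IsCyclic E ∨ ∃ C Q : Subgroup G, C ⊔ Q = E ∧ (∀ a ∈ C, ∀ b ∈ Q, a * b = b * a) ∧ IsCyclic C ∧ Odd ♯C ∧
      ∃ n : ℕ, Nonempty (↥Q ≃* QuaternionGroup (2 ^ n)) := by
  haveI := Fact.mk Nat.prime_two
  have h1 := piCoreOf_le {2}ᶜ E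
  have h2 := piCoreOf_le {2} E
  have ho : Odd ♯(piCoreOf {2}ᶜ E) :=
    Nat.odd_iff.2 (Nat.two_dvd_ne_zero.1 ((isPi_piCoreOf {2}ᶜ E).not_dvd Nat.prime_two rfl))
  have hc := nil_Zgroup_cyclic (odd_regular_Zgroup ho hK (h1.trans hn) (hr.of_le le_rfl h1)) (nil_of_le hE h1)
  have h3 := (sup_comm _ _).trans (piCoreOf_sup_compl_of_nil {2} hE)
  have h4 := cent_symm (piCoreOf_cent_compl {2} E)
  rcases H1.isCyclic_or_quaternion_of_fpf (isPGroup_piCoreOf 2 E) hK (h2.trans hn) (hr.of_le le_rfl h2)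
    with h5 | ⟨-, n, -, h5⟩
  · exact Or.inl (h3 ▸ cyclic_sup_of_coprime hc h5 h4 ((isPi_piCoreOf _ E).coprime' (isPi_piCoreOf _ E)))
  · exact Or.inr ⟨_, _, h3, le_cent_iff.1 h4, hc, ho, n, h5⟩

/-- a maximal nilpotent subgroup is the centralizer of its nontrivial central subgroups. -/
theorem CNOf.max_nil_cent (h : CNOf (⊤ : Subgroup G)) (hmax : ∀ L : Subgroup G, Group.IsNilpotent L → H ≤ L → L = H)
    (h1 : A ≠ ⊥) (hA : A ≤ C⟦H⟧) : C⟦A⟧ = H :=
  hmax _ (h.nil_of_cent le_top h1 le_top le_rfl) (cent_symm hA)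

theorem center_pCoreOf_le_cent [Fact p.Prime] (hH : Group.IsNilpotent H) (hA : A ≤ piCoreOf {p} H)
    (h : A ≤ C⟦piCoreOf {p} H⟧) : A ≤ C⟦H⟧ := by
  rw [← piCoreOf_sup_compl_of_nil {p} hH]
  exact le_cent_sup h (hA.trans (piCoreOf_cent_compl _ H))

theorem CNOf.max_nil_sylow [Fact p.Prime] (h : CNOf (⊤ : Subgroup G)) (hH : Group.IsNilpotent H)
    (hmax : ∀ L : Subgroup G, Group.IsNilpotent L → H ≤ L → L = H) (hd : p ∣ ♯H) :
    SylowOf p (piCoreOf {p} H) ⊤ := by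
  have h0 := (pCoreOf_sylow_of_nil hH).sylow_ne_bot hd
  have hp := isPGroup_piCoreOf p H
  obtain ⟨P, hP, hle⟩ := exists_sylowOf_ge hp (le_top (a := piCoreOf {p} H))
  have h1 := h.max_nil_cent hmax (center_ne_bot_of_nil hp.isNilpotent h0)
    (center_pCoreOf_le_cent hH inf_le_left inf_le_right)
  have h2 : P ⊓ C⟦P⟧ ≤ piCoreOf {p} H := le_pCoreOf_of_nil hH
    (h1 ▸ inf_le_right.trans (cent_anti (inf_le_left.trans hle))) (hP.isPGroup.to_le inf_le_left)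
  have h3 := h.max_nil_cent hmax (center_ne_bot_of_nil hP.isPGroup.isNilpotent fun e => h0 (le_bot_iff.1 (e ▸ hle)))
    (center_pCoreOf_le_cent hH h2 (inf_le_right.trans (cent_anti hle)))
  exact hP.of_ge le_top (isPi_piCoreOf _ _) (le_pCoreOf_of_nil hH (h3 ▸ cent_symm inf_le_right) hP.isPGroup)

theorem CNOf.max_nil_hall (h : CNOf (⊤ : Subgroup G)) (hH : Group.IsNilpotent H)
    (hmax : ∀ L : Subgroup G, Group.IsNilpotent L → H ≤ L → L = H) : IsPiHallOf (primesOf H) H ⊤ :=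
  hall_of_forall_sylow le_top (isPi_primesOf H) fun p hp hd _ =>
    haveI := Fact.mk hp
    ⟨_, h.max_nil_sylow hH hmax hd.2, piCoreOf_le _ _⟩

theorem CNOf.max_nil_ti (h : CNOf (⊤ : Subgroup G)) (hH : Group.IsNilpotent H)
    (hmax : ∀ L : Subgroup G, Group.IsNilpotent L → H ≤ L → L = H)
    (h2 : ∀ p : ℕ, p.Prime → ∃ q : ℕ, q.Prime ∧ q ≠ p ∧ q ∣ ♯H) {g : G} (hg : H ⊓ cj g H ≠ ⊥) : cj g H = H := by
  obtain ⟨X, hX, hp⟩ := exists_prime_subgroup_of_ne_bot hg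
  obtain ⟨q, hq, hqp, hd⟩ := h2 _ hp
  haveI := Fact.mk hq
  haveI := Fact.mk hp
  have hH' : Group.IsNilpotent (cj g H) := isNilpotent_cj.2 hH
  have hmax' : ∀ L : Subgroup G, Group.IsNilpotent L → cj g H ≤ L → L = cj g H := fun L h1 h2 => by
    rw [← hmax (cj g⁻¹ L) (isNilpotent_cj.2 h1) (cj_le_iff.1 h2), cj_cj_inv]
  have hC := h.nil_of_cent le_top (ne_bot_of_card_prime hp) le_top le_rfl
  have key : ∀ L : Subgroup G, Group.IsNilpotent L → X ≤ L → SylowOf q (piCoreOf {q} L) ⊤ →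
      piCoreOf {q} L = piCoreOf {q} C⟦X⟧ := fun L h1 h2 h3 =>
    hall_eq_piCoreOf_of_nil hC (h3.of_le (cent_of_nil_coprime h1 (piCoreOf_le _ _) h2 (coprime_of_isPGroup_ne
      (isPGroup_piCoreOf q L) (isPGroup_of_card_prime rfl) hqp)) le_top)
  have h3 := (key H hH (hX.trans inf_le_left) (h.max_nil_sylow hH hmax hd)).trans
    (key _ hH' (hX.trans inf_le_right) (h.max_nil_sylow hH' hmax' (card_cj g H ▸ hd))).symm
  have h4 := center_ne_bot_of_nil (isPGroup_piCoreOf q H).isNilpotent ((pCoreOf_sylow_of_nil hH).sylow_ne_bot hd)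
  rw [← h.max_nil_cent hmax' h4 (center_pCoreOf_le_cent (p := q) hH' (h3 ▸ inf_le_left) (h3 ▸ inf_le_right)),
    h.max_nil_cent hmax h4 (center_pCoreOf_le_cent hH inf_le_left inf_le_right)]

theorem CNOf.max_nil_cent1_le (h : CNOf (⊤ : Subgroup G)) (hH : Group.IsNilpotent H)
    (hmax : ∀ L : Subgroup G, Group.IsNilpotent L → H ≤ L → L = H) {x : G} (hx : x ∈ H) (h1 : x ≠ 1)
    (hn : C₁⟦x⟧ ≤ N⟦H⟧) : C₁⟦x⟧ ≤ H := by
  refine le_of_nil_forall_pCoreOf (h.nil trivial h1 le_top le_rfl) fun p hp hd => ?_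
  haveI := Fact.mk hp
  have hP := isPGroup_piCoreOf p C₁⟦x⟧
  by_cases h2 : p ∣ ♯H
  · exact (h.max_nil_hall hH hmax).le_of_norm (isPi_of_isPGroup hP ⟨hp, h2⟩) le_top
      (Or.inl ((piCoreOf_le _ _).trans hn))
  have h3 := h.cent le_top le_top hP.isNilpotent hH (coprime_of_isPGroup hP
    ((Nat.Prime.coprime_iff_not_dvd hp).2 h2).symm) le_rfl (zpowers_le.2 hx)
    ((pCoreOf_sylow_of_nil (h.nil trivial h1 le_top le_rfl)).sylow_ne_bot hd) (zpowers_ne_bot.2 h1)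
    (cent_zpowers x ▸ piCoreOf_le _ _)
  exact h.max_nil_cent hmax (center_ne_bot_of_nil hH (ne_bot_of_mem hx h1)) inf_le_right ▸
    h3.trans (cent_anti inf_le_left)

/-- the quotient by a normal subgroup, in ambient form. -/
noncomputable def quoTopEquiv {G : Type*} [Group G] (T : Subgroup G) [T.Normal] : G ⧸ T ≃* quo ⊤ T :=
  haveI := (NormalIn.of_normal T).subgroupOf_normal
  (QuotientGroup.congr _ _ topEquiv (by ext x; simp [mem_subgroupOf])).symm.trans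
    (quoEquiv (NormalIn.of_normal T).norm)

/-- Higman: a solvable group all of whose elements have prime power order has at most two primes. -/
theorem two_primes_of_prime_power_orders (hs : Group.IsSolvable H)
    (h : ∀ x ∈ H, x ≠ 1 → IsPrimePow (orderOf x)) : (♯H).primeFactors.card ≤ 2 := by
  have key : ∀ X Y : Subgroup G, X ≤ H → Y ≤ H → (♯X).Prime → (♯Y).Prime → X ≤ C⟦Y⟧ → ♯X = ♯Y := by
    intro X Y hX hY hp hq hc
    by_contra hne
    obtain ⟨x, hx, ex⟩ := exists_prime_order_mem hp (dvd_refl ♯X)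
    obtain ⟨y, hy, ey⟩ := exists_prime_order_mem hq (dvd_refl ♯Y)
    have hco := (Nat.coprime_primes hp hq).2 hne
    have e := Commute.orderOf_mul_eq_mul_orderOf_of_coprime (le_cent_iff.1 hc x hx y hy) (by rwa [ex, ey])
    rw [ex, ey] at e
    have h1 := h _ (H.mul_mem (hX hx) (hY hy)) fun h0 => by
      rw [h0, orderOf_one] at e; exact hp.one_lt.ne' (Nat.eq_one_of_mul_eq_one_right e.symm)
    rw [e] at h1
    exact hne ((isPrimePow_iff_unique_prime_dvd.1 h1).unique ⟨hp, dvd_mul_right _ _⟩ ⟨hq, dvd_mul_left _ _⟩)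
  by_cases h1 : H = ⊥
  · simp [h1]
  obtain ⟨p, V, hp, hV, h2, h3, h4⟩ := exists_elem_normalIn (NormalIn.refl H) hs h1
  haveI := Fact.mk hp
  obtain ⟨E, hE⟩ := exists_hall {p}ᶜ hs
  have hr : Semiregular V E := semiregular_of_prime_subgroups fun X hX hq => by
    by_contra h5
    obtain ⟨Y, hY, hr⟩ := exists_prime_subgroup_of_ne_bot h5
    have e := key Y X (hY.trans (inf_le_left.trans h2)) (hX.trans hE.le) hr hq (hY.trans inf_le_right)
    exact hE.isPi.mem hq (card_dvd hX) ((isPi_singleton_iff.2 (isPGroup_of_elem h4)).mem hq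
      (e ▸ card_dvd (hY.trans inf_le_left)))
  by_cases h5 : E = ⊥
  · refine (Finset.card_le_card (t := {p}) fun q hq => ?_).trans (by simp)
    have := (hE.eq_bot_iff.1 h5).mem (Nat.prime_of_mem_primeFactors hq) (Nat.dvd_of_mem_primeFactors hq)
    simpa using this
  have h6 : E ⊓ C⟦E⟧ ≠ ⊥ := by
    rw [← map_center, Ne, map_eq_bot_iff_inj E.subtype_injective]
    exact H1.center_ne_bot_of_fpf hV.1 h5 (hE.le.trans h3.norm) hr
  obtain ⟨Y, hY, hq⟩ := exists_prime_subgroup_of_ne_bot h6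
  refine (Finset.card_le_card (t := {p, ♯Y}) fun r hr => ?_).trans Finset.card_le_two
  have hr1 := Nat.prime_of_mem_primeFactors hr
  by_cases h7 : r = p
  · simp [h7]
  obtain ⟨X, hX, rfl⟩ := exists_prime_subgroup hr1 ((hE.dvd_iff hr1 h7).2 (Nat.dvd_of_mem_primeFactors hr))
  simp [key X Y (hX.trans hE.le) (hY.trans (inf_le_left.trans hE.le)) hr1 hq
    (hX.trans (cent_symm (hY.trans inf_le_right)))]

end Cfsg.Agent.BG
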