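import Cfsg.Agent.H21.Leech10
import Cfsg.Agent.H16.HomEng

/-! The maximal subgroups `2^10:M22:2` of `Co2` and `2^12:M24` of `Co0`; simplicity of `Co2` and `Co1`. -/

set_option autoImplicit false
set_option exponentiation.threshold 1000

namespace Cfsg.Agent.LL

open Cfsg Cfsg.Agent.H16 MulAction
open scoped symmDiff Pointwise

section general
variable {G : Type*} [Group G]

theorem iwasawa_comm {K M N E : Subgroup G} (hn : NormBy K N) (hN : N ≤ K) (hE : E ≤ K) (hEM : NormBy M E)
    (hf : ∀ k ∈ K, ∃ x ∈ N, ∃ m ∈ M, k = x * m) (hc : ∀ a ∈ E, ∀ b ∈ E, a * b = b * a)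
    (hA : ∀ R ≤ K, NormBy K R → E ≤ R → K ≤ R) : ∀ a ∈ K, ∀ b ∈ K, a * b * a⁻¹ * b⁻¹ ∈ N := by
  let R : Subgroup G :=
    { carrier := {g | ∃ x ∈ N, ∃ e ∈ E, g = x * e}
      one_mem' := ⟨1, N.one_mem, 1, E.one_mem, by simp⟩
      mul_mem' := by
        rintro _ _ ⟨x, hx, e, he, rfl⟩ ⟨y, hy, f, hf, rfl⟩
        exact ⟨x * (e * y * e⁻¹), N.mul_mem hx (hn e (hE he) y hy), e * f, E.mul_mem he hf, by group⟩
      inv_mem' := by
        rintro _ ⟨x, hx, e, he, rfl⟩
        exact ⟨e⁻¹ * x⁻¹ * e⁻¹⁻¹, hn _ (hE (E.inv_mem he)) _ (N.inv_mem hx), e⁻¹, E.inv_mem he, by group⟩ }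
  have hR : K ≤ R := by
    refine hA R ?_ ?_ fun e he => ⟨1, N.one_mem, e, he, by simp⟩
    · rintro _ ⟨x, hx, e, he, rfl⟩
      exact K.mul_mem (hN hx) (hE he)
    · rintro k hk _ ⟨x, hx, e, he, rfl⟩
      obtain ⟨y, hy, m, hm, rfl⟩ := hf k hk
      have h1 := hEM m hm e he
      exact ⟨y * m * x * (y * m)⁻¹ * (y * (m * e * m⁻¹ * y⁻¹ * (m * e * m⁻¹)⁻¹)),
        N.mul_mem (hn _ hk _ hx) (N.mul_mem hy (hn _ (hE h1) _ (N.inv_mem hy))), _, h1, by group⟩
  intro a ha b hb
  obtain ⟨x, hx, e, he, rfl⟩ := hR ha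
  obtain ⟨y, hy, f, hf, rfl⟩ := hR hb
  have : x * e * (y * f) * (x * e)⁻¹ * (y * f)⁻¹ = x * (e * y * e⁻¹) * (f * x⁻¹ * f⁻¹) * y⁻¹ := by
    have := hc e he f hf
    calc _ = x * (e * y * e⁻¹) * (e * f) * e⁻¹ * x⁻¹ * f⁻¹ * y⁻¹ := by group
      _ = _ := by rw [this]; group
  rw [this]
  exact N.mul_mem (N.mul_mem (N.mul_mem hx (hn _ (hE he) _ hy)) (hn _ (hE hf) _ (N.inv_mem hx))) (N.inv_mem hy)

theorem map_le_of_simple {H : Type*} [Group H] (φ : H →* G) {K : Subgroup H} [IsSimpleGroup K] {R : Subgroup G}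
    (hn : ∀ k ∈ K, ∀ x ∈ R, φ k * x * (φ k)⁻¹ ∈ R) {a : H} (ha : a ∈ K) (h1 : a ≠ 1) (hR : φ a ∈ R) :
    ∀ k ∈ K, φ k ∈ R := by
  rcases NormBy.of_simple (K := K) (N := K ⊓ R.comap φ) inf_le_left (fun k hk x hx =>
    ⟨K.mul_mem (K.mul_mem hk hx.1) (K.inv_mem hk), by simpa using hn k hk _ hx.2⟩) with h | h
  · exact absurd (Subgroup.mem_bot.mp (h ▸ ⟨ha, hR⟩)) h1
  · exact fun k hk => (h.ge hk).2

theorem card_le_mul {K N M : Subgroup G} [Finite N] [Finite M] (h : ∀ k ∈ K, ∃ x ∈ N, ∃ m ∈ M, k = x * m) :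
    Nat.card K ≤ Nat.card N * Nat.card M := by
  choose x hx m hm e using h
  rw [← Nat.card_prod]
  refine Nat.card_le_card_of_injective (fun k : K => ((⟨_, hx k k.2⟩ : N), (⟨_, hm k k.2⟩ : M))) fun a b h => ?_
  simp only [Prod.mk.injEq, Subtype.mk.injEq] at h
  exact Subtype.ext (by rw [e a a.2, e b b.2, h.1, h.2])

end general

/-! ### sign changes -/

theorem eps_mul (c d : gSets) : eps c * eps d = eps ⟨c.1 ∆ d.1, symmDiff_mem_gSets c.2 d.2⟩ :=
  co_ext fun v => Subtype.ext (funext fun i => by
    simp only [mul_smul, eps_apply, Finset.mem_symmDiff]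
    by_cases a : i ∈ c.1 <;> by_cases b : i ∈ d.1 <;> simp [a, b])

theorem eps_c0 : eps c0 = 1 := permHom.map_one

theorem eps_sq (c : gSets) : eps c * eps c = 1 := by
  rw [eps_mul, ← eps_c0]; exact congrArg eps (Subtype.ext (symmDiff_self _))

theorem eps_inv (c : gSets) : (eps c)⁻¹ = eps c := inv_eq_of_mul_eq_one_right (eps_sq c)

theorem eps_comm (c d : gSets) : eps c * eps d = eps d * eps c := by
  rw [eps_mul, eps_mul]; exact congrArg eps (Subtype.ext (symmDiff_comm _ _))

theorem eps_conj (σ : M24) (c : gSets) :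
    permHom σ * eps c * (permHom σ)⁻¹ = eps ⟨σ • c.1, M24_smul_mem_gSets σ c.2⟩ :=
  co_ext fun v => Subtype.ext (funext fun i => by
    simp only [← map_inv, mul_smul, eps_apply, perm_apply, inv_inv, smul_inv_smul, mem_inv_smul])

theorem mono_conj (σ : M24) (d c : gSets) :
    mono σ d * eps c * (mono σ d)⁻¹ = eps ⟨σ • c.1, M24_smul_mem_gSets σ c.2⟩ := by
  have := eps_conj σ c
  calc _ = eps d * (permHom σ * eps c * (permHom σ)⁻¹) * (eps d)⁻¹ := by rw [mono_eq]; group
    _ = _ := by rw [this, eps_comm, mul_inv_cancel_right]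

theorem eps_eq_one {c : gSets} (h : eps c = 1) : c = c0 := (mono_inj (h.trans eps_c0.symm)).2

theorem mono_e8_eq {σ : M24} {c : gSets} {i j : GolayPt} (h : mono σ c • e8 i = e8 j) : σ • i = j := by
  rw [mono_e8] at h
  split_ifs at h with a
  · exact absurd h.symm (e8_ne_neg _ _)
  · exact e8_inj h

/-- the monomial elements of `Co2` -/
abbrev NU : Subgroup Co0 := K2 ⊓ NN

theorem mem_NU {g : Co0} : g ∈ NU ↔ ∃ σ : M24, σ • ({pI, pZ} : Finset GolayPt) = {pI, pZ} ∧
    ∃ c : gSets, pI ∉ c.1 ∧ pZ ∉ c.1 ∧ g = mono σ c := by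
  refine ⟨fun ⟨h1, h2⟩ => ?_, fun ⟨σ, h1, c, h2, h3, e⟩ => e ▸ ⟨mono_U h1 h2 h3, mono_mem_NN _ _⟩⟩
  obtain ⟨σ, c, rfl⟩ := mem_NN.mp h2
  have h := fun i => mono_apply σ c U i
  rw [show mono σ c • U = U from h1] at h
  simp only [U_apply] at h
  refine ⟨σ, Finset.eq_of_subset_of_card_le (fun i hi => ?_) (Finset.card_smul_finset _ _).ge, c, fun a => ?_,
    fun a => ?_, rfl⟩
  · have := h i
    rw [← mem_inv_smul, Finset.mem_insert, Finset.mem_singleton] at hi
    rw [if_pos hi] at this
    by_contra b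
    rw [Finset.mem_insert, Finset.mem_singleton] at b
    rw [if_neg b] at this
    split_ifs at this; omega
  · have := h pI
    rw [if_pos a, if_pos (Or.inl rfl)] at this
    split_ifs at this; omega
  · have := h pZ
    rw [if_pos a, if_pos (Or.inr rfl)] at this
    split_ifs at this; omega

theorem pair_cases {σ : M24} (h : σ • ({pI, pZ} : Finset GolayPt) = {pI, pZ}) :
    σ • pI = pI ∧ σ • pZ = pZ ∨ σ • pI = pZ ∧ σ • pZ = pI := by
  have h1 : σ • pI ∈ σ • ({pI, pZ} : Finset GolayPt) := Finset.smul_mem_smul_finset (by simp)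
  have h2 : σ • pZ ∈ σ • ({pI, pZ} : Finset GolayPt) := Finset.smul_mem_smul_finset (by simp)
  have h3 : σ • pI ≠ σ • pZ := fun e => absurd (MulAction.injective σ e) (by decide)
  rw [h, Finset.mem_insert, Finset.mem_singleton] at h1 h2
  grind

theorem NU_U' {g : Co0} (hg : g ∈ NU) : g • U' = U' ∨ g • U' = -U' := by
  have h0 : g • U = U := hg.1
  obtain ⟨σ, h1, c, h2, h3, rfl⟩ := mem_NU.mp hg
  have := mono_e8 σ c pI
  rw [← U_add_U', smul_add, h0] at this
  rcases pair_cases h1 with h | h <;> rw [h.1] at this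
  · rw [if_neg h2, ← U_add_U', add_right_inj] at this; exact Or.inl this
  · rw [if_neg h3, ← U_sub_U', sub_eq_add_neg, add_right_inj] at this; exact Or.inr this

theorem mem_NU_of {g : Co0} (h : g • U = U) (h' : g • U' = U' ∨ g • U' = -U') : g ∈ NU := by
  refine ⟨h, mem_NN.mpr ?_⟩
  rcases h' with h' | h'
  · exact mono_of_one (i := pI) (k := pI) (Or.inl (by rw [← U_add_U', smul_add, h, h']))
  · exact mono_of_one (i := pI) (k := pZ) (Or.inl (by rw [← U_add_U', smul_add, h, h', ← U_sub_U', sub_eq_add_neg]))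

theorem maxIn_NU : MaxIn NU K2 := by
  intro H h1 h2
  by_cases h : H ≤ NU
  · exact Or.inl (le_antisymm h h1)
  refine Or.inr (le_antisymm h2 fun g hg => ?_)
  have step : ∀ {a b : ℕ}, (∃ t : Co0, t • U = U ∧ t • vL a = U' ∧ ∃ g ∈ NN, g • U = U ∧ t • g • vL a = vL b) →
      (∃ h ∈ H, h • U' = vL a) → ∃ h ∈ H, h • U' = vL b := by
    rintro a b ⟨t, t1, t2, n, hn, n1, n2⟩ ⟨h, hh, e⟩
    have : t * h ∈ H := h1 (mem_NU_of (by rw [mul_smul, show h • U = U from h2 hh, t1]) (Or.inl (by rw [mul_smul, e, t2])))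
    exact ⟨t * n * h, H.mul_mem (H.mul_mem ((H.mul_mem_cancel_right hh).mp this) (h1 ⟨n1, hn⟩)) hh,
      by rw [mul_smul, mul_smul, e, n2]⟩
  have cls : ∀ g ∈ K2, ∃ n ∈ NU, ∃ a ∈ repO, (n * g) • U' = vL a := fun g hg => by
    obtain ⟨a, ha, n, hn, e1, e2⟩ := orth_class (w := g • U') ((sqNorm_co _ _).trans norm_U')
      ((dot_fix hg _).trans dot_UU')
    exact ⟨n, ⟨e1, hn⟩, a, ha, by rw [mul_smul, e2]⟩
  have h4 : ∃ h ∈ H, h • U' = vL aW1 := by
    obtain ⟨k, hk, hk'⟩ := SetLike.not_le_iff_exists.mp h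
    obtain ⟨n, hn, a, ha, e⟩ := cls k (h2 hk)
    have e' : ∃ h ∈ H, h • U' = vL a := ⟨_, H.mul_mem (h1 hn) hk, e⟩
    simp only [repO, List.mem_cons, List.not_mem_nil, or_false] at ha
    rcases ha with rfl | rfl | rfl | rfl | rfl
    · exact absurd ((NU.mul_mem_cancel_left hn).mp (mem_NU_of (K2.mul_mem hn.1 (h2 hk)) (Or.inl (e.trans vL_U')))) hk'
    exacts [e', step tW4 (step tW3 (step tW2 e')), step tW4 (step tW3 e'), step tW4 e']
  obtain ⟨n, hn, a, ha, e⟩ := cls g hg
  obtain ⟨k, hk, e'⟩ : ∃ h ∈ H, h • U' = vL a := by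
    simp only [repO, List.mem_cons, List.not_mem_nil, or_false] at ha
    rcases ha with rfl | rfl | rfl | rfl | rfl
    exacts [⟨1, H.one_mem, by rw [one_smul, vL_U']⟩, h4, step tW1 h4, step tW2 (step tW1 h4),
      step tW3 (step tW2 (step tW1 h4))]
  have : k⁻¹ * (n * g) ∈ H := h1 (mem_NU_of (K2.mul_mem (K2.inv_mem (h2 hk)) (K2.mul_mem hn.1 hg))
    (Or.inl (by rw [mul_smul, e, inv_smul_eq_iff, e'])))
  exact (H.mul_mem_cancel_left (h1 hn)).mp ((H.mul_mem_cancel_left (H.inv_mem hk)).mp this)

theorem exists_third (p q : GolayPt) : ∃ r, r ∈ rest ∧ r ≠ p ∧ r ≠ q := by revert p q; decide +kernel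

theorem eq_one_of_orth {g : Co0} (hg : g ∈ NU)
    (h : ∀ w : L, sqNorm (w : V) = 32 → dotInt (U : V) w = 0 → g • w = w ∨ g • w = -w) : g = 1 := by
  obtain ⟨σ, h1, c, h2, h3, rfl⟩ := mem_NU.mp hg
  have key : ∀ i ∈ rest, ∀ j ∈ rest, i ≠ j → (σ • i = i ∨ σ • i = j) ∧ (σ • i = i → σ • j = j → (i ∈ c.1 ↔ j ∈ c.1)) := by
    intro i hi j hj hne
    obtain ⟨i1, i2⟩ := mem_rest.mp hi
    obtain ⟨j1, j2⟩ := mem_rest.mp hj
    have := h ⟨_, pair_mem i j (a := 4) (b := 4) (by norm_num) (by norm_num)⟩ (by simp [sqNorm_pair hne])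
      (by simp [dot_add_right, dot_single_right, U_apply, *])
    have e := fun k => mono_apply σ c ⟨_, pair_mem i j (a := 4) (b := 4) (by norm_num) (by norm_num)⟩ k
    refine ⟨?_, fun a b => ?_⟩
    · by_contra a
      rw [not_or] at a
      have e := e (σ • i)
      rcases this with t | t <;> rw [t] at e <;> split_ifs at e <;> simp [a.1, a.2, hne] at e
    · have e1 := e i
      have e2 := e j
      rw [show σ⁻¹ • i = i from inv_smul_eq_iff.mpr a.symm] at e1
      rw [show σ⁻¹ • j = j from inv_smul_eq_iff.mpr b.symm] at e2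
      rcases this with t | t <;> rw [t] at e1 e2 <;> split_ifs at e1 e2 <;> simp_all
  have hσ : ∀ i ∈ rest, σ • i = i := fun i hi => by
    obtain ⟨j, hj, h1, h2⟩ := exists_third i (σ • i)
    exact (key i hi j hj h1.symm).1.resolve_right h2.symm
  obtain rfl : σ = 1 := eq_one_of_ubChain [[0, 1302533], [23]] (F := 8388606) (by decide +kernel) hσ
  rw [← eps_c0]
  refine congrArg eps (Subtype.ext (Finset.eq_empty_of_forall_notMem fun i hi => ?_))
  have hi' : i ∈ rest := mem_rest.mpr ⟨fun e => h2 (e ▸ hi), fun e => h3 (e ▸ hi)⟩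
  have : c.1 = rest := Finset.ext fun j => ⟨fun hj => mem_rest.mpr ⟨fun e => h2 (e ▸ hj), fun e => h3 (e ▸ hj)⟩,
    fun hj => by
      by_cases e : i = j
      · exact e ▸ hi
      · exact ((key i hi' j hj e).2 rfl rfl).mp hi⟩
  have h4 := card_of_mem_gSets c.2
  rw [this, card_rest] at h4
  omega

theorem core_NU (N : Subgroup Co0) (hN : N ≤ NU) (hn : NormBy K2 N) : N = ⊥ := by
  refine eq_bot_iff.mpr fun g hg => eq_one_of_orth (hN hg) fun w h1 h2 => ?_
  obtain ⟨k, e1, rfl⟩ := pair_trans ⟨1, one_smul _ U, one_smul _ U'⟩ (to_U' h1 h2)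
  have := NU_U' (hN (hn k⁻¹ (K2.inv_mem e1) g hg))
  simp only [inv_inv, mul_smul, inv_smul_eq_iff, smul_neg] at this
  exact this

/-- the sign changes in `Co2` -/
def EU : Subgroup Co0 where
  carrier := {g | ∃ c : gSets, pI ∉ c.1 ∧ pZ ∉ c.1 ∧ g = eps c}
  one_mem' := ⟨c0, by simp [c0], by simp [c0], eps_c0.symm⟩
  mul_mem' := by
    rintro _ _ ⟨c, h1, h2, rfl⟩ ⟨d, h3, h4, rfl⟩
    exact ⟨_, by simp [Finset.mem_symmDiff, *], by simp [Finset.mem_symmDiff, *], eps_mul c d⟩
  inv_mem' := by
    rintro _ ⟨c, h1, h2, rfl⟩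
    exact ⟨c, h1, h2, eps_inv c⟩

theorem EU_le : EU ≤ NU := fun _ ⟨c, h1, h2, e⟩ => mem_NU.mpr ⟨1, one_smul _ _, c, h1, h2, e⟩

theorem normBy_EU : NormBy NU EU := by
  rintro g hg _ ⟨c, h1, h2, rfl⟩
  obtain ⟨σ, h3, d, -, -, rfl⟩ := mem_NU.mp hg
  have := pair_cases (σ := σ⁻¹) (by rw [inv_smul_eq_iff, h3])
  refine ⟨_, ?_, ?_, mono_conj σ d c⟩ <;> rw [← mem_inv_smul] <;> rcases this with e | e <;> simp only [e.1, e.2] <;>
    assumption

theorem k22_trans (k b : ℕ) (hb : b < 4096) (hc : Nat.beq (Nat.land (codeMask fun m => andB (Nat.beq (pc24 m) k)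
    (andB (notB (tb m 23)) (notB (tb m 0)))) (cOrb k22G b)) (codeMask fun m => andB (Nat.beq (pc24 m) k)
    (andB (notB (tb m 23)) (notB (tb m 0)))) = true) {s t : gSets} (hs : s.1.card = k ∧ pI ∉ s.1 ∧ pZ ∉ s.1)
    (ht : t.1.card = k ∧ pI ∉ t.1 ∧ pZ ∉ t.1) : ∃ σ ∈ K22, permHom σ * eps s * (permHom σ)⁻¹ = eps t := by
  obtain ⟨σ, h, e⟩ := code_trans k22G_inK (Q := fun s => s.card = k ∧ pI ∉ s ∧ pZ ∉ s) _ (fun m hm => by
    simp only [andB_iff, Nat.beq_eq, card_toSet, notB_iff, tb_eq, mem_toSet]; rfl) hb hc s.2 hs t.2 ht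
  exact ⟨σ, h, (eps_conj σ s).trans (congrArg eps (Subtype.ext e))⟩

/-- code words given by masks -/
def cW (m : ℕ) (h : isCode m = true := by decide +kernel) : gSets := ⟨toSet m, toSet_mem_of_isCode h⟩

theorem k22_oct {s t : gSets} (hs : s.1.card = 8 ∧ pI ∉ s.1 ∧ pZ ∉ s.1) (ht : t.1.card = 8 ∧ pI ∉ t.1 ∧ pZ ∉ t.1) :
    ∃ σ ∈ K22, permHom σ * eps s * (permHom σ)⁻¹ = eps t :=
  k22_trans 8 (10558 % 4096) (by norm_num) (by decide +kernel) hs ht

theorem EU_le_of {R : Subgroup Co0} (hR : ∀ σ ∈ K22, ∀ x ∈ R, permHom σ * x * (permHom σ)⁻¹ ∈ R)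
    (h : eps (cW 10558) ∈ R) : EU ≤ R := by
  have h8 : ∀ t : gSets, t.1.card = 8 ∧ pI ∉ t.1 ∧ pZ ∉ t.1 → eps t ∈ R := fun t ht => by
    obtain ⟨σ, hσ, e⟩ := k22_oct (s := cW 10558) (by decide +kernel) ht
    exact e ▸ hR σ hσ _ h
  rintro _ ⟨c, h1, h2, rfl⟩
  rcases card_of_mem_gSets c.2 with e | e | e | e | e
  · rw [show c = c0 from Subtype.ext (Finset.card_eq_zero.mp e), eps_c0]; exact R.one_mem
  · exact h8 c ⟨e, h1, h2⟩
  · obtain ⟨σ, hσ, e⟩ := k22_trans 12 (4839740 % 4096) (by norm_num) (by decide +kernel)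
      (s := ⟨_, symmDiff_mem_gSets (cW 10558).2 (cW 4845570).2⟩) (by decide +kernel) ⟨e, h1, h2⟩
    rw [← e, ← eps_mul]
    exact hR σ hσ _ (R.mul_mem h (h8 _ (by decide +kernel)))
  · obtain ⟨σ, hσ, e⟩ := k22_trans 16 (2030014 % 4096) (by norm_num) (by decide +kernel)
      (s := ⟨_, symmDiff_mem_gSets (cW 10558).2 (cW 2019456).2⟩) (by decide +kernel) ⟨e, h1, h2⟩
    rw [← e, ← eps_mul]
    exact hR σ hσ _ (R.mul_mem h (h8 _ (by decide +kernel)))
  · exact absurd ((Finset.card_eq_iff_eq_univ _).mp (e.trans card_golayPt.symm) ▸ Finset.mem_univ _) h1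

def mE : ℕ := nat_lit 0xc4210842108421084210842108421086210842108421084210842108421084310842108421084210842108421084218842108421084210842108421084210c4210842108421084210842108421086210842108421084210842108421084310842108421084210842108421084218842108421084210842108421084210c421084210842108421084210842108621084210842108421084210842108411084210842108421084210842108421884210842108421084210842108421044210842108421084210842108421086210842108421084210842108421084310842108421084210842108421084208842108421084210842108421084210c421084210842108421084210842108621084210842108421084210842108411084210842108421084210842108420884210842108421084210842108421044210842108421084210842108421082210842108421084210842108421084110842108421084210842108421084218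
def tswap : ℕ := nat_lit 0xa42108421084210842108421085194832108420c84290842108420c842108420c842106421083290842108421084190642108421084210a3210842108420c84210a421083190842108421084210841908321084210842906421084210832108420ca420c8421084210832108420c8419084210842148421084190a42108421084210632108421084210832108420c642148421084210852108420c84190842108420c842108421084190832108421084190a42108421084290832108421084190642108419064210842108421065210842108429064210842108421063210842108421084190852108421084190642108421484210642108319084210842108420c842106421085190842108421084210852108420c6420c8421084210832108421484190842108420c842108421083210842146420c8421084210a4210842108421084210842108528c642108421084210842108421085294a42108421084210842108421083294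
def sswap : ℕ := nat_lit 0x84210842108421084210842108421884210842188421084210842108421084310842108421084210842108421084218842108421084210842108421084210c4210842108421084210842108421084210842188421084210842108421084210862108421084210842108621084210842108421084210842108421084210c421084210842108421084210843108421084210842108421084210842108421084210842088421084210862108421084210842108421084210842108421084208842108421084210842108421086210842108421084210842108421084310842108421084210842108421044210842108421084210842108421084210c421084210842108421084210842108621084210842108421084210842108421044210842108421084110842108421084210842108421084210842108411084210842108421084210842108421084110842108421084210842108421082210c42108421084210842108421084210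
def uswap : ℕ := nat_lit 0xa42108421084210842108421085194832108420c84290842108420c842108420c842106421083290842108421084190642108421084210a3210842108420c84210a421083190842108421084210841908321084210842906421084210832108420ca420c8421084210832108420c8419084210842148421084190a42108421084210632108421084210832108420c6421484210842108321084214842908421084214842108421084190832108421084190a42108421084190852108421084290a42108419064210842108421065210842108429064210842108421063210842108421084290832108421084290a42108421484210642108319084210842108420c8421064210851908421084210842108321084214a42148421084210852108420c8429084210842148421084210852108420ca42148421084210642108421084210842108421083194a4210842108421084210842108318ca42108421084210842108421083294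
def tfix : ℕ := nat_lit 0xa4210842108421084290842108419484210841908420c842108520c842108321064210852108420c842108421084210832148421084210642106421083210a4210832108420c84210842108419084210841906421084290842108420c84210a421083210842108321084214842106421083210842108321084190842108429064210841908421084210841908420c8421083214842108420c8421064210852108421083210841908421084190a42108419084210842108520c84210842106421064210842908421084190642108419084210842108320c842108421064210a4210842108320c8421084210a421064210a4210842108421084290842108428c6421084210842108429084210842948420c842106421083210842108521084210842908420c842108320c84210842108419084214842108320c842108521064210832108420c8421084210832106421083210842148421084210a42108421084210841908421084294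
def sfix : ℕ := nat_lit 0xc4210842108421084210842108421084210842108421084218842108421084310842108421084210842108421084210842104421084210842108421084210842108221084210842108421084210842108421084210c421084210842108421084218842108421084210842108421084210842108421044210842088421084210842108421084210842104421084210842108421084210842108421084310842108421084210842108431084210842108421084210842108421084210c42108421084210842108421084210842108421086210842108421084210843108421084210862108421084210842108421084210842108621084210842108421084210842108421084210842108420884210842108421084210842108431084210842108421084210842108221084210842108420884210842108421084210842108421084210862108421084210842108421084210842108421084310842108421084210842108421084218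
def ufix : ℕ := nat_lit 0xa4210842108421084290842108419484210841908420c842108520c842108321064210852108420c842108421084210832148421084210642106421083210a4210832108420c84210842108419084210841906421084290842108420c84210a421083210842108321084214842106421083210842108321084190842108429064210841908421084210841908420c8421083214842108421484210a4210832108421085210841908421084190a4210841908421084210832148421084210a4210a4210842908421084190642108419084210842108320c842108421064210a42108421085214842108421064210a4210a4210842108421084290842108428c6421084210842108429084210842948421484210a421085210842108321084210841908421484210852148421084210842908420c84210852148421083210a42108521084214842108421085210a4210852108420c8421084210a42108421084210841908421084294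

theorem mIs_E : MIs (eps (cW 10558)) mE := by
  intro p
  rw [eps_e8]
  revert p
  decide +kernel

theorem conj_E {t s u : ℕ} (h : andB (andB (isCo t) (isCo s)) (andB (mv t aU aU) (andB (mm t mE u) (mm s t u))) = true)
    {R : Subgroup Co0} (hn : NormBy K2 R) (hR : R ≤ K2) (hE : EU ≤ R) {i j : GolayPt} (hij : col s (idx i) = Pi.single j 8) :
    ∃ σ c, MIs (mono σ c) s ∧ σ • ({pI, pZ} : Finset GolayPt) = {pI, pZ} ∧ permHom σ ∈ R := by
  simp only [andB_iff] at h
  obtain ⟨⟨h1, h2⟩, h3, h4, h5⟩ := h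
  obtain ⟨g, hg⟩ := exists_of_isCo h1
  obtain ⟨k, hk⟩ := exists_of_isCo h2
  have e : k = g * eps (cW 10558) * g⁻¹ := eq_mul_inv_of_mul_eq ((hk.mm hg h5).unique (hg.mm mIs_E h4))
  have hkR : k ∈ R := e ▸ hn g (hg.mv h3 coe_U coe_U) _ (hE ⟨_, by decide +kernel, by decide +kernel, rfl⟩)
  obtain ⟨σ, a, c, b1, b2, rfl⟩ := mem_NU.mp ⟨hR hkR, mem_NN.mpr
    (mono_of_one (i := i) (k := j) (Or.inl (Subtype.ext ((hk i).trans hij))))⟩
  exact ⟨σ, c, hk, a, (R.mul_mem_cancel_left (hE ⟨c, b1, b2, rfl⟩)).mp (mono_eq σ c ▸ hkR)⟩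

theorem MIs.perm_eq {σ : M24} {c : gSets} {s : ℕ} (h : MIs (mono σ c) s) {i j : GolayPt}
    (hij : col s (idx i) = Pi.single j 8) : σ • i = j := mono_e8_eq (Subtype.ext ((h i).trans hij))

theorem perm_mem_K2 {σ : M24} (h : σ ∈ K22) : permHom σ ∈ K2 := perm_U h.1 h.2

theorem E_ne_one : eps (cW 10558) ≠ 1 := fun e => absurd (congrArg Subtype.val (eps_eq_one e)) (by decide +kernel)

theorem K2_le_of {R : Subgroup Co0} (hR : R ≤ K2) (hn : NormBy K2 R) (h : eps (cW 10558) ∈ R) : K2 ≤ R := by
  have hE := EU_le_of (fun σ hσ => hn _ (perm_mem_K2 hσ)) h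
  obtain ⟨σ, c, h1, -, h2⟩ := conj_E (t := tfix) (s := sfix) (u := ufix) (by decide +kernel) hn hR hE (i := pI) (j := pI)
    (by decide +kernel)
  obtain ⟨τ, d, h3, h4, h5⟩ := conj_E (t := tswap) (s := sswap) (u := uswap) (by decide +kernel) hn hR hE (i := pZ)
    (j := pI) (by decide +kernel)
  have := simple_K22
  have h6 := map_le_of_simple permHom (K := K22) (fun σ hσ => hn _ (perm_mem_K2 hσ)) (a := σ)
    ⟨h1.perm_eq (i := pI) (j := pI) (by decide +kernel), h1.perm_eq (i := pZ) (j := pZ) (by decide +kernel)⟩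
    (fun e => by
      have := h1.perm_eq (i := some 2) (j := some 10) (by decide +kernel)
      rw [e, one_smul] at this
      exact absurd this (by decide)) h2
  have h7 : τ • pI = pZ ∧ τ • pZ = pI := (pair_cases h4).resolve_left fun e => by
    have := h3.perm_eq (i := pZ) (j := pI) (by decide +kernel)
    rw [e.2] at this
    exact absurd this (by decide)
  have h8 : NU ≤ R := fun g hg => by
    obtain ⟨ρ, a, c, b1, b2, rfl⟩ := mem_NU.mp hg
    rw [mono_eq]
    refine R.mul_mem (hE ⟨c, b1, b2, rfl⟩) ?_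
    rcases pair_cases a with e | e
    · exact h6 ρ e
    · refine (R.mul_mem_cancel_right h5).mp (map_mul permHom ρ τ ▸ h6 _ ⟨?_, ?_⟩)
      · exact (mul_smul ρ τ pI).trans (by rw [h7.1, e.2]; rfl)
      · exact (mul_smul ρ τ pZ).trans (by rw [h7.2, e.1]; rfl)
  rcases maxIn_NU R h8 hR with e | e
  · exact absurd (Subgroup.mem_bot.mp (core_NU R e.le hn ▸ h)) E_ne_one
  · exact e.ge

theorem E_mem_EU : eps (cW 10558) ∈ EU := ⟨_, by decide +kernel, by decide +kernel, rfl⟩

theorem simple_K2 : IsSimpleGroup K2 := by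
  refine isSimpleGroup_of_normBy (fun e => E_ne_one (Subgroup.mem_bot.mp (e ▸ (EU_le E_mem_EU).1))) fun N hN hn => ?_
  by_cases h : N ≤ NU
  · exact Or.inl (core_NU N h hn)
  refine Or.inr (le_antisymm hN (K2_le_of hN hn ?_))
  have hc := iwasawa_comm hn hN (EU_le.trans inf_le_left) normBy_EU (exists_mul_of_normBy inf_le_left hN hn maxIn_NU h)
    (by rintro _ ⟨c, -, -, rfl⟩ _ ⟨d, -, -, rfl⟩; exact eps_comm c d) fun R h1 h2 h3 => K2_le_of h1 h2 (h3 E_mem_EU)
  obtain ⟨σ, hσ, e⟩ := k22_oct (s := cW 421910) (t := cW 416040) (by decide +kernel) (by decide +kernel)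
  have := hc _ (perm_mem_K2 hσ) (eps (cW 421910)) (EU_le ⟨_, by decide +kernel, by decide +kernel, rfl⟩).1
  rw [e, eps_inv, eps_mul] at this
  convert this using 2
  exact Subtype.ext (by decide +kernel)

/-! ### the monomial group is maximal -/

noncomputable def pS (k : ℕ) : Bool := orB (orB (Nat.beq k 12) (Nat.beq k 4)) (orB (Nat.beq k 10) (Nat.beq k 6))

/-- the number of coordinates `±2`, `±4` -/
noncomputable def st (x : V) : ℕ := (Finset.univ.filter fun i => pS (x i + 8).toNat = true).card

theorem st_NN {g : Co0} (hg : g ∈ NN) (x : L) : st (g • x : L) = st x := by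
  obtain ⟨σ, c, rfl⟩ := mem_NN.mp hg
  refine Finset.card_bijective _ (MulAction.bijective σ⁻¹) fun i => ?_
  simp only [Finset.mem_filter, Finset.mem_univ, true_and, mono_apply, pS, orB_iff, Nat.beq_eq]
  split_ifs <;> omega

open Classical in
theorem ncard_orbit_U {H : Subgroup Co0} (h : NN ≤ H) : (orbit H U).ncard = 1104 +
    (if vL aB ∈ orbit H U then 97152 else 0) + (if vL aC ∈ orbit H U then 98304 else 0) := by
  have s1 : st (U : V) = 2 := by decide +kernel
  have s2 : st (vL aB : V) = 8 := by rw [coe_B]; decide +kernel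
  have s3 : st (vL aC : V) = 0 := by rw [coe_C]; decide +kernel
  have hm : ∀ g ∈ NN, ∀ x : L, g • x ∈ orbit H U ↔ x ∈ orbit H U := fun g hg x =>
    ⟨fun ⟨k, e⟩ => ⟨⟨g, h hg⟩⁻¹ * k, by
      change (g⁻¹ * (k : Co0)) • U = x
      rw [mul_smul, inv_smul_eq_iff]; exact e⟩, fun ⟨k, e⟩ => ⟨⟨g, h hg⟩ * k, by
      change (g * (k : Co0)) • U = g • x
      rw [mul_smul]; exact congrArg _ e⟩⟩
  let Q : Bool → Bool → ℕ → Bool := fun b c j => orB (Nat.beq j 2) (orB (andB b (Nat.beq j 8)) (andB c (Nat.beq j 0)))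
  have hQ : ∀ b c, cntL pS (Q b c) 32 = 1104 + (if b = true then 97152 else 0) + (if c = true then 98304 else 0) := by
    decide +kernel
  have := hQ (decide (vL aB ∈ orbit H U)) (decide (vL aC ∈ orbit H U))
  simp only [decide_eq_true_eq] at this
  rw [← this, ← count_leech _ _ _ (by norm_num)]
  refine Eq.trans ?_ (ncard_coe fun x => sqNorm x = (32 : ℕ) ∧
    Q (decide (vL aB ∈ orbit H U)) (decide (vL aC ∈ orbit H U)) (st x) = true)
  refine congrArg Set.ncard (Set.ext fun x => ?_)
  simp only [Set.mem_ofPred_eq, Q, orB_iff, andB_iff, Nat.beq_eq, decide_eq_true_eq]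
  by_cases hn : sqNorm (x : V) = 32
  · refine Iff.trans ?_ (and_iff_right hn).symm
    rcases nn32 hn with ⟨-, g, hg, e⟩ | ⟨-, g, hg, e⟩ | ⟨-, g, hg, e⟩ <;> rw [← hm g hg, ← st_NN hg, e]
    · simp [s1]
    · simp [s2]
    · simp [s3]
  · exact iff_of_false (fun ⟨g, e⟩ => hn (e ▸ (sqNorm_co _ _).trans norm_U)) fun e => hn e.1

theorem card_NU : Nat.card NU = 908328960 := by
  have h1 := card_eq_orbit_mul NN U
  rw [ncard_orbit_U le_rfl, card_NN, inf_comm, if_neg, if_neg] at h1
  · unfold NU K2; omega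
  · rintro ⟨g, e⟩
    have := (st_NN g.2 U).symm.trans (congrArg (fun x : L => st x) e)
    rw [coe_C] at this
    exact absurd this (by decide +kernel)
  · rintro ⟨g, e⟩
    have := (st_NN g.2 U).symm.trans (congrArg (fun x : L => st x) e)
    rw [coe_B] at this
    exact absurd this (by decide +kernel)

theorem maxIn_NN : MaxIn NN ⊤ := by
  intro H h _
  have h1 := card_eq_orbit_mul H U
  have h2 := Subgroup.card_dvd_of_le h
  have h3 := H.card_subgroup_dvd_card
  rw [ncard_orbit_U h] at h1
  rw [card_NN] at h2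
  rw [card_Co0] at h3
  rcases maxIn_NU (H ⊓ K2) (fun g hg => ⟨h hg.2, hg.1⟩) inf_le_right with e | e
  · rw [e, card_NU] at h1
    left
    refine (Subgroup.eq_of_le_of_card_ge h ?_).symm
    rw [card_NN]
    rw [h1] at h2 h3 ⊢
    split_ifs at h2 h3 ⊢ <;> omega
  · rw [e, card_K2] at h1
    right
    refine Subgroup.eq_top_of_le_card _ ?_
    rw [card_Co0]
    rw [h1] at h2 h3 ⊢
    split_ifs at h2 h3 ⊢ <;> omega

theorem exists_avoid {c : gSets} (h : c.1 ≠ Finset.univ) : ∃ σ : M24, pI ∉ σ • c.1 ∧ pZ ∉ σ • c.1 := by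
  have h1 := card_of_mem_gSets (compl_mem_gSets c.2)
  obtain ⟨p, hp, q, hq, hpq⟩ := Finset.one_lt_card.mp (show 1 < c.1ᶜ.card by
    have : c.1ᶜ.card ≠ 0 := by simpa using h
    omega)
  obtain ⟨σ, e1, e2⟩ := M24_two hpq (show pI ≠ pZ by decide)
  exact ⟨σ, by rw [← e1, Finset.smul_mem_smul_finset_iff]; exact Finset.mem_compl.mp hp,
    by rw [← e2, Finset.smul_mem_smul_finset_iff]; exact Finset.mem_compl.mp hq⟩

theorem eq_top_of_K2_le {N : Subgroup Co0} [hn : N.Normal] (h : K2 ≤ N) : N = ⊤ := by
  have h1 : ∀ c : gSets, c.1 ≠ Finset.univ → eps c ∈ N := fun c hc => by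
    obtain ⟨σ, a, b⟩ := exists_avoid hc
    have := hn.conj_mem _ (h (EU_le ⟨⟨_, M24_smul_mem_gSets σ c.2⟩, a, b, rfl⟩).1) (permHom σ)⁻¹
    rw [← eps_conj] at this
    simpa [mul_assoc] using this
  have h2 : ∀ c : gSets, eps c ∈ N := fun c => by
    by_cases e : c.1 = Finset.univ
    · have := N.mul_mem (h1 (cW 10558) (by decide +kernel)) (h1 (cW 16766657) (by decide +kernel))
      rw [eps_mul] at this
      convert this using 2
      exact Subtype.ext (e.trans (by decide +kernel))
    · exact h1 c e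
  have := simple_M24
  have h3 : N.comap permHom = ⊤ := (Subgroup.Normal.eq_bot_or_eq_top inferInstance).resolve_left fun e => by
    have : K22 ≤ ⊥ := e ▸ fun σ hσ => h (perm_mem_K2 hσ)
    have h4 := card_K22
    rw [le_bot_iff.mp this, Subgroup.card_bot] at h4
    omega
  refine (maxIn_NN N (fun g hg => ?_) le_top).resolve_left fun e => ?_
  · obtain ⟨σ, c, rfl⟩ := mem_NN.mp hg
    rw [mono_eq]
    exact N.mul_mem (h2 c) (h3.ge (Subgroup.mem_top σ))
  · have := Subgroup.card_le_of_le (e ▸ h)
    rw [card_K2, card_NN] at this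
    omega

theorem normal_Co0 (N : Subgroup Co0) [hn : N.Normal] : N ≤ Subgroup.center Co0 ∨ N = ⊤ := by
  have := simple_K2
  rcases NormBy.of_simple (K := K2) (N := K2 ⊓ N) inf_le_left (fun k hk x hx =>
    ⟨K2.mul_mem (K2.mul_mem hk hx.1) (K2.inv_mem hk), hn.conj_mem _ hx.2 _⟩) with h | h
  swap
  · exact Or.inr (eq_top_of_K2_le (inf_eq_left.mp h))
  left
  by_cases hN : N ≤ NN
  · have key : ∀ c : gSets, eps c ∈ N → c.1 = ∅ ∨ c.1 = Finset.univ := fun c hc => by
      refine or_iff_not_imp_right.mpr fun e => ?_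
      obtain ⟨σ, a, b⟩ := exists_avoid e
      have := hn.conj_mem _ hc (permHom σ)
      rw [eps_conj] at this
      have := congrArg Subtype.val (eps_eq_one (Subgroup.mem_bot.mp (h.le ⟨(EU_le ⟨_, a, b, rfl⟩).1, this⟩)))
      simpa [c0] using this
    intro g hg
    obtain ⟨σ, c, rfl⟩ := mem_NN.mp (hN hg)
    obtain rfl : σ = 1 := by
      refine Subtype.ext (Equiv.ext fun p => ?_)
      change σ • p = p
      by_contra hp
      obtain ⟨r, -, r1, r2⟩ := exists_third p (σ • p)
      obtain ⟨d, hd, e⟩ := exists_code_small (S := {σ • p, p, r, σ • r}) (lt_of_le_of_lt Finset.card_le_four (by norm_num))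
        {p, r, σ • r}
      have h1 : mono σ c * (eps ⟨d, hd⟩ * (mono σ c)⁻¹ * (eps ⟨d, hd⟩)⁻¹) ∈ N :=
        N.mul_mem hg (hn.conj_mem _ (N.inv_mem hg) _)
      rw [← mul_assoc, ← mul_assoc, mono_conj, eps_inv, eps_mul] at h1
      have a1 : p ∈ d := (e p (by simp)).mpr (by simp)
      have a2 : r ∈ d := (e r (by simp)).mpr (by simp)
      have a3 : σ • r ∈ d := (e _ (by simp)).mpr (by simp)
      have a4 : σ • p ∉ d := by rw [e _ (by simp)]; simp [hp, r1.symm, r2.symm]
      rcases key _ h1 with t | t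
      · exact Finset.notMem_empty (σ • p) (t ▸ Finset.mem_symmDiff.mpr (Or.inl ⟨Finset.smul_mem_smul_finset a1, a4⟩))
      · have := Finset.mem_symmDiff.mp (t ▸ Finset.mem_univ (σ • r))
        simp [a2, a3] at this
    rw [mem_center_iff]
    rcases key c hg with t | t
    · exact Or.inl ((congrArg eps (Subtype.ext t)).trans eps_c0)
    · exact Or.inr (congrArg eps (Subtype.ext t))
  · exfalso
    have h1 := card_le_mul (exists_mul_of_normBy le_top le_top (fun k _ x hx => hn.conj_mem x hx k) maxIn_NN hN)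
    have h2 := card_eq_orbit_mul N U
    have h3 := Set.ncard_le_ncard (orbit_subset_of (K := N) (x := U) (X := {x : L | sqNorm (x : V) = 32})
      fun g _ => (sqNorm_co _ _).trans norm_U) (finite_norm 32)
    rw [inf_comm, h, Subgroup.card_bot] at h2
    rw [Subgroup.card_top, card_Co0, card_NN] at h1
    rw [ncard32] at h3
    omega

theorem card_Co1 : Nat.card (Co0 ⧸ Subgroup.center Co0) = 4157776806543360000 := by
  have := (Subgroup.center Co0).card_eq_card_quotient_mul_card_subgroup
  rw [card_Co0, card_center] at this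
  omega

theorem simple_Co1 : IsSimpleGroup (Co0 ⧸ Subgroup.center Co0) := by
  have : Nontrivial (Co0 ⧸ Subgroup.center Co0) := Finite.one_lt_card_iff_nontrivial.mp (by rw [card_Co1]; norm_num)
  refine ⟨fun H hH => ?_⟩
  rw [← Subgroup.map_comap_eq_self_of_surjective (QuotientGroup.mk'_surjective _) H]
  rcases normal_Co0 (H.comap (QuotientGroup.mk' _)) with h | h
  · exact Or.inl ((Subgroup.map_eq_bot_iff _).mpr (by rwa [QuotientGroup.ker_mk']))
  · exact Or.inr (by rw [h]; exact Subgroup.map_top_of_surjective _ (QuotientGroup.mk'_surjective _))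

end Cfsg.Agent.LL
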