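import Cfsg.Agent.H21.Leech5
import Cfsg.Agent.H21.LSimd

/-! Elements of `Co0` as packed matrices; tables of lattice vectors and the permutations induced on them. -/

set_option autoImplicit false
set_option exponentiation.threshold 1000

namespace Cfsg.Agent.LL

open Cfsg Cfsg.Agent.H16 MulAction
open scoped symmDiff Pointwise

theorem sum_gpt {M : Type*} [AddCommMonoid M] (f : GolayPt → M) : ∑ p, f p = ∑ j ∈ Finset.range 24, f (gpt j) := by
  symm
  refine Finset.sum_bij (fun j _ => gpt j) (fun _ _ => Finset.mem_univ _)
    (fun i hi j hj e => gpt_inj i (Finset.mem_range.mp hi) j (Finset.mem_range.mp hj) e)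
    (fun p _ => ⟨idx p, Finset.mem_range.mpr (idx_lt p), gpt_idx p⟩) fun _ _ => rfl

theorem mem_gSets_of_rows {C : Finset GolayPt} (h : ∀ b < 12, Even (toSet (H16.get 24 gRows b) ∩ C).card) : C ∈ gSets := by
  refine mem_gSets_of_even fun D hD => ?_
  obtain ⟨i, hi, rfl⟩ := mem_gSets_iff.mp hD
  have := xc_ind (P := fun a => Even (toSet a ∩ C).card) (by simp [toSet_zero]) ?_ (rows := H16.get 24 gRows) (k := 12) h i
  · unfold cset; rw [cw_eq hi]; exact this
  · intro a b ha hb
    rw [toSet_xor]
    have e : toSet a ∆ toSet b ∩ C = (toSet a ∩ C) ∆ (toSet b ∩ C) := by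
      ext p; simp only [Finset.mem_inter, Finset.mem_symmDiff]; tauto
    have := card_symmDiff_add (toSet a ∩ C) (toSet b ∩ C)
    rw [e, Nat.even_iff] at *
    omega

/-! ### tables -/

/-- `X j` lists the `j`-th coordinates (shifted) of `n` vectors -/
def TabIs (F n : ℕ) (X : ℕ → ℕ) (f : ℕ → ℕ → ℕ) : Prop :=
  (∀ j < 24, X j = simd F n (f j)) ∧ ∀ j < 24, ∀ k < n, f j k < 32

/-- the `k`-th vector of a table with offset `o` -/
def tv (o : ℕ) (f : ℕ → ℕ → ℕ) (k : ℕ) : V := fun p => (f (idx p) k : ℤ) - o

theorem tv_gpt (o : ℕ) (f : ℕ → ℕ → ℕ) (k : ℕ) {j : ℕ} (hj : j < 24) : tv o f k (gpt j) = (f j k : ℤ) - o := by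
  rw [tv, idx_gpt hj]

variable {F n O : ℕ} {X Y : ℕ → ℕ} {f y : ℕ → ℕ → ℕ}

theorem lt_pow16 (hF : 16 ≤ F) {a : ℕ} (h : a < 65536) : a < 2 ^ F :=
  h.trans_le (Nat.pow_le_pow_right (show 0 < 2 by norm_num) hF)

/-- all vectors of the table lie in the lattice -/
noncomputable def isLS (O : ℕ) (X : ℕ → ℕ) : Bool :=
  force (fld O (X 0) 0 1) fun m =>
    andB (allB 24 fun j => Nat.beq (fld O (X j) 0 1) m)
      (andB (allB 12 fun b => force (H16.get 24 gRows b) fun r =>
          Nat.beq (fld O (sumN 24 fun j => ifB (tb r j) (fld O (X j) 1 1) 0) 0 1) 0)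
        (Nat.beq (fld O (sumN 24 X) 0 7) (Nat.mul 4 m)))

theorem isLS_spec (hF : 16 ≤ F) (hO : O = simd F n fun _ => 1) (hX : TabIs F n X f) (h : isLS O X = true) {o : ℕ}
    (ho : 4 ∣ o) {k : ℕ} (hk : k < n) : tv o f k ∈ leechLattice := by
  unfold isLS at h
  simp only [force_eq, andB_iff, allB_iff, Nat.beq_eq] at h
  obtain ⟨h1, h2, h3⟩ := h
  have hb : ∀ j < 24, ∀ k < n, f j k < 2 ^ F := fun j hj k hk => lt_pow16 hF (by have := hX.2 j hj k hk; omega)
  have e0 : ∀ j < 24, fld O (X j) 0 1 = simd F n fun k => f j k / 2 ^ 0 % 2 ^ 1 := fun j hj => by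
    rw [hX.1 j hj, fld_simd hO (w := 1) (c := 1) (by omega) rfl (hb j hj)]
  have e1 : ∀ j < 24, fld O (X j) 1 1 = simd F n fun k => f j k / 2 ^ 1 % 2 ^ 1 := fun j hj => by
    rw [hX.1 j hj, fld_simd hO (w := 1) (c := 1) (by omega) rfl (hb j hj)]
  have a1 : ∀ j < 24, f j k % 2 = f 0 k % 2 := fun j hj => by
    have := h1 j hj
    rw [e0 j hj, e0 0 (by norm_num)] at this
    simpa using simd_inj (fun k _ => lt_pow16 hF (by omega)) (fun k _ => lt_pow16 hF (by omega)) this k hk
  have a3 : (∑ j ∈ Finset.range 24, f j k) % 8 = 4 * (f 0 k % 2) := by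
    rw [sumN_simd hX.1, fld_simd hO (s := 0) (w := 3) (c := 7) (f := fun k => ∑ j ∈ Finset.range 24, f j k) (by omega) rfl (fun k hk => lt_pow16 hF (by
      have := sum24_le (f := fun j => f j k) (c := 32) fun j hj => (hX.2 j hj k hk).le; omega)),
      e0 0 (by norm_num)] at h3
    change _ = 4 * _ at h3
    rw [simd_mul] at h3
    simpa using simd_inj (fun k _ => lt_pow16 hF (by omega)) (fun k _ => lt_pow16 hF (by omega)) h3 k hk
  let C : Finset GolayPt := Finset.univ.filter fun p => f (idx p) k / 2 % 2 = 1
  have hC : C ∈ gSets := by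
    refine mem_gSets_of_rows fun b hb => ?_
    have := h2 b hb
    rw [sumN_simd (f := fun j k => if (H16.get 24 gRows b).testBit j = true then f j k / 2 ^ 1 % 2 ^ 1 else 0)
      (fun j hj => by
        rw [ifB_eq, tb_eq]; split_ifs
        · exact e1 j hj
        · exact (simd_zero F n).symm),
      fld_simd hO (s := 0) (w := 1) (c := 1) (f := fun k => ∑ j ∈ Finset.range 24, if (H16.get 24 gRows b).testBit j = true then f j k / 2 ^ 1 % 2 ^ 1 else 0) (by omega) rfl (fun k hk => lt_pow16 hF (by
        have := sum24_le (f := fun j => if (H16.get 24 gRows b).testBit j = true then f j k / 2 ^ 1 % 2 ^ 1 else 0)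
          (c := 1) fun j hj => by split_ifs <;> omega
        omega))] at this
    have := simd_inj (fun k _ => lt_pow16 hF (by omega)) (fun k _ => lt_pow16 hF (by omega))
      (this.trans (simd_zero F n).symm) k hk
    have e : (toSet (H16.get 24 gRows b) ∩ C).card = ∑ j ∈ Finset.range 24,
        if (H16.get 24 gRows b).testBit j = true then f j k / 2 ^ 1 % 2 ^ 1 else 0 := by
      rw [← Finset.univ_inter (_ ∩ _), ← Finset.filter_mem_eq_inter, Finset.card_filter, sum_gpt]
      refine Finset.sum_congr rfl fun j hj => ?_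
      have hj := Finset.mem_range.mp hj
      simp only [C, Finset.mem_inter, gpt_mem_toSet hj, Finset.mem_filter, Finset.mem_univ, true_and, idx_gpt hj]
      generalize (H16.get 24 gRows b).testBit j = t
      have : f j k / 2 % 2 = 0 ∨ f j k / 2 % 2 = 1 := by omega
      rcases this with e | e <;> cases t <;> simp [e]
    rw [e, Nat.even_iff]
    generalize (∑ j ∈ Finset.range 24, if (H16.get 24 gRows b).testBit j = true then f j k / 2 ^ 1 % 2 ^ 1 else 0) = t
      at this ⊢
    omega
  refine IsL.mem (m := (f 0 k % 2 : ℕ)) (C := C) ⟨hC, fun p => ?_, ?_⟩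
  · have := a1 _ (idx_lt p)
    simp only [tv, ind, C, Finset.mem_filter, Finset.mem_univ, true_and]
    split_ifs <;> omega
  · rw [sum_gpt, Finset.sum_congr rfl fun j hj => tv_gpt o f k (Finset.mem_range.mp hj), Finset.sum_sub_distrib,
      ← Nat.cast_sum]
    simp only [Finset.sum_const, Finset.card_range, nsmul_eq_mul]
    omega

/-- all vectors of the table have norm `N` -/
noncomputable def nrmS (O o N : ℕ) (X : ℕ → ℕ) : Bool :=
  Nat.beq (Nat.add (sumN 24 fun j => mulS O (X j) (X j)) (Nat.mul (24 * o * o) O))
    (Nat.add (Nat.mul (2 * o) (sumN 24 X)) (Nat.mul N O))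

theorem nrmS_spec (hF : 16 ≤ F) (hO : O = simd F n fun _ => 1) (hX : TabIs F n X f) {o N : ℕ} (ho : o ≤ 16)
    (hN : N ≤ 1000) (h : nrmS O o N X = true) {k : ℕ} (hk : k < n) : sqNorm (tv o f k) = N := by
  unfold nrmS at h
  rw [Nat.beq_eq, sumN_simd hX.1, sumN_simd (f := fun j k => f j k * f j k) fun j hj => by
    rw [hX.1 j hj, mulS_eq hO (by omega) (hX.2 j hj) (hX.2 j hj)], hO] at h
  change _ + (24 * o * o) * _ = (2 * o) * _ + N * _ at h
  rw [simd_mul, simd_mul, simd_mul, simd_add, simd_add] at h
  have := simd_inj (fun k hk => lt_pow16 hF (by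
    have := sum24_le (f := fun j => f j k * f j k) (c := 32 * 32) fun j hj =>
      Nat.mul_le_mul (hX.2 j hj k hk).le (hX.2 j hj k hk).le
    nlinarith)) (fun k hk => lt_pow16 hF (by
    have := sum24_le (f := fun j => f j k) (c := 32) fun j hj => (hX.2 j hj k hk).le
    nlinarith)) h k hk
  unfold sqNorm
  rw [sum_gpt, Finset.sum_congr rfl (g := fun j => ((f j k * f j k : ℕ) : ℤ) - 2 * o * (f j k : ℕ) + o * o)
    fun j hj => by rw [tv_gpt o f k (Finset.mem_range.mp hj)]; push_cast; ring, Finset.sum_add_distrib,
    Finset.sum_sub_distrib, ← Finset.mul_sum, ← Nat.cast_sum, ← Nat.cast_sum]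
  simp only [Finset.sum_const, Finset.card_range, nsmul_eq_mul]
  zify at this ⊢
  linear_combination this

/-- single vectors: 5 bits per coordinate, offset 16 -/
noncomputable def vec (a : ℕ) : V := fun p => (H16.get 5 a (idx p) : ℤ) - 16

theorem tabIs_vec (a : ℕ) : TabIs 16 1 (H16.get 5 a) fun j _ => H16.get 5 a j :=
  ⟨fun j _ => by simp [simd], fun _ _ _ _ => get_lt _ _ _⟩

theorem one_simd : 1 = simd 16 1 fun _ => 1 := by simp [simd]

/-- digits: inner product with `vec a`, plus `16384` -/
noncomputable def dotT (O o a : ℕ) (X : ℕ → ℕ) : ℕ :=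
  Nat.add (Nat.add (lin (H16.get 5 a) X) (Nat.mul 16 (Nat.sub (Nat.mul 768 O) (sumN 24 X))))
    (Nat.mul (Nat.sub (Nat.add 4096 (Nat.mul 384 o)) (Nat.mul o (sumN 24 (H16.get 5 a)))) O)

theorem simd_sub {g g' : ℕ → ℕ} (h : ∀ k < n, g' k ≤ g k) : simd F n g - simd F n g' = simd F n fun k => g k - g' k := by
  refine Nat.sub_eq_of_eq_add ?_
  rw [simd_add]
  exact simd_congr fun k hk => (Nat.sub_add_cancel (h k hk)).symm

theorem dotT_spec (hF : 16 ≤ F) (hO : O = simd F n fun _ => 1) (hX : TabIs F n X f) {o : ℕ} (ho : o ≤ 8) (a : ℕ)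
    {k : ℕ} (hk : k < n) : (H16.get F (dotT O o a X) k : ℤ) = dotInt (vec a) (tv o f k) + 16384 := by
  have b1 : ∀ k < n, ∑ j ∈ Finset.range 24, f j k ≤ 768 * 1 := fun k hk =>
    sum24_le (f := fun j => f j k) (c := 32) fun j hj => (hX.2 j hj k hk).le
  have b2 : ∑ j ∈ Finset.range 24, H16.get 5 a j ≤ 24 * 32 := sum24_le fun j _ => (get_lt _ _ _).le
  have b3 : o * ∑ j ∈ Finset.range 24, H16.get 5 a j ≤ 4096 + 384 * o := by nlinarith
  unfold dotT
  rw [lin_eq hX.1, sumN_simd hX.1, hO, sumN_eq]
  change (H16.get F (_ + 16 * (768 * _ - _) + (4096 + 384 * o - o * _) * _) k : ℤ) = _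
  rw [simd_mul, simd_sub b1, simd_mul, simd_mul, simd_add, simd_add, get_simd (fun k hk => lt_pow16 hF (by
    have := sum24_le (f := fun j => H16.get 5 a j * f j k) (c := 32 * 32) fun j hj =>
      Nat.mul_le_mul (get_lt _ _ _).le (hX.2 j hj k hk).le
    omega)) hk]
  unfold dotInt
  rw [sum_gpt, Finset.sum_congr rfl (g := fun j => ((H16.get 5 a j * f j k : ℕ) : ℤ) - 16 * (f j k : ℕ) -
    o * (H16.get 5 a j : ℕ) + 16 * o) fun j hj => by
      rw [tv_gpt o f k (Finset.mem_range.mp hj), vec, idx_gpt (Finset.mem_range.mp hj)]; push_cast; ring,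
    Finset.sum_add_distrib, Finset.sum_sub_distrib, Finset.sum_sub_distrib, ← Finset.mul_sum, ← Finset.mul_sum,
    ← Nat.cast_sum, ← Nat.cast_sum, ← Nat.cast_sum]
  simp only [Finset.sum_const, Finset.card_range, nsmul_eq_mul]
  have := b1 k hk
  rw [Nat.cast_add, Nat.cast_add, Nat.cast_mul, Nat.cast_sub this, mul_one (_ - _), Nat.cast_sub b3]
  push_cast
  ring

/-! ### matrices -/

/-- shifted entry in row `i` and column `j` -/
noncomputable def ea (m i j : ℕ) : ℕ := H16.get 5 m (Nat.add (Nat.mul 24 j) i)

theorem ea_lt (m i j : ℕ) : ea m i j < 32 := get_lt _ _ _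

/-- the columns of the matrix -/
noncomputable def col (m k : ℕ) : V := tv 16 (ea m) k

/-- the map given by the matrix (8 times the isometry) -/
noncomputable def tm (m : ℕ) (x : V) : V := ∑ p, x p • col m (idx p)

/-- `m` is the matrix of `g` -/
def MIs (g : Co0) (m : ℕ) : Prop := ∀ p, ((g • e8 p : L) : V) = col m (idx p)

theorem MIs.tm {g : Co0} {m : ℕ} (h : MIs g m) (v : L) : tm m v = (8 : ℤ) • ((g • v : L) : V) := by
  funext i
  rw [Pi.smul_apply, smul_eq_mul, eight_co]
  simp only [LL.tm, Finset.sum_apply, Pi.smul_apply, smul_eq_mul, h _]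

theorem MIs.unique {g h : Co0} {m : ℕ} (hg : MIs g m) (hh : MIs h m) : g = h :=
  co_ext8 fun p => Subtype.ext ((hg p).trans (hh p).symm)

noncomputable def appL (O o m : ℕ) (X : ℕ → ℕ) (i : ℕ) : ℕ :=
  Nat.add (lin (ea m i) X) (Nat.mul (Nat.add (Nat.mul 384 o) 128) O)

noncomputable def appR (O o m S : ℕ) (i : ℕ) : ℕ :=
  Nat.add (Nat.mul (Nat.mul o (sumN 24 (ea m i))) O) S

/-- the matrix maps the table `X` (offset `o`) to the table `Y` (offset 16) -/
noncomputable def appChk (O o m : ℕ) (X Y : ℕ → ℕ) : Bool :=
  force (Nat.mul 16 (sumN 24 X)) fun S =>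
    allB 24 fun i => Nat.beq (appL O o m X i) (Nat.add (Nat.mul 8 (Y i)) (appR O o m S i))

theorem appChk_spec (hF : 16 ≤ F) (hO : O = simd F n fun _ => 1) (hX : TabIs F n X f) (hY : TabIs F n Y y) {o m : ℕ}
    (ho : o ≤ 16) (h : appChk O o m X Y = true) {k : ℕ} (hk : k < n) : tm m (tv o f k) = (8 : ℤ) • tv 16 y k := by
  funext p
  obtain ⟨i, hi, rfl⟩ := exists_gpt p
  unfold appChk at h
  rw [force_eq] at h
  have := allB_spec h i hi
  unfold appL appR at this
  rw [Nat.beq_eq, lin_eq hX.1, sumN_simd hX.1, hY.1 i hi, hO, sumN_eq] at this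
  change _ + (384 * o + 128) * _ = 8 * _ + (o * _ * _ + 16 * _) at this
  rw [simd_mul, simd_mul, simd_mul, simd_mul, simd_add, simd_add, simd_add] at this
  have := simd_inj (fun k hk => lt_pow16 hF (by
    have := sum24_le (f := fun j => ea m i j * f j k) (c := 32 * 32) fun j hj =>
      Nat.mul_le_mul (ea_lt _ _ _).le (hX.2 j hj k hk).le
    omega)) (fun k hk => lt_pow16 hF (by
    have h1 := sum24_le (f := fun j => f j k) (c := 32) fun j hj => (hX.2 j hj k hk).le
    have h2 := sum24_le (f := fun j => ea m i j) (c := 32) fun j hj => (ea_lt _ _ _).le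
    have h3 := hY.2 i hi k hk
    have h4 : o * ∑ j ∈ Finset.range 24, ea m i j ≤ 16 * (24 * 32) := Nat.mul_le_mul ho h2
    omega)) this k hk
  simp only [tm, Finset.sum_apply, Pi.smul_apply, smul_eq_mul]
  rw [tv_gpt _ _ _ hi, sum_gpt, Finset.sum_congr rfl (g := fun j => ((ea m i j * f j k : ℕ) : ℤ) - 16 * (f j k : ℕ) -
    o * (ea m i j : ℕ) + 16 * o) fun j hj => by
      rw [tv_gpt o f k (Finset.mem_range.mp hj), col, tv_gpt _ _ _ hi, idx_gpt (Finset.mem_range.mp hj)]
      push_cast; ring,
    Finset.sum_add_distrib, Finset.sum_sub_distrib, Finset.sum_sub_distrib, ← Finset.mul_sum, ← Finset.mul_sum,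
    ← Nat.cast_sum, ← Nat.cast_sum, ← Nat.cast_sum]
  simp only [Finset.sum_const, Finset.card_range, nsmul_eq_mul]
  zify at this ⊢
  linear_combination this

/-- the matrix maps `vec a` to `vec b` -/
noncomputable def mv (m a b : ℕ) : Bool := appChk 1 16 m (H16.get 5 a) (H16.get 5 b)

theorem MIs.mv {g : Co0} {m a b : ℕ} (hg : MIs g m) (h : mv m a b = true) {v w : L} (hv : (v : V) = vec a)
    (hw : (w : V) = vec b) : g • v = w := by
  have := appChk_spec le_rfl one_simd (tabIs_vec a) (tabIs_vec b) le_rfl h Nat.one_pos
  change LL.tm m (vec a) = (8 : ℤ) • vec b at this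
  rw [← hv, hg.tm, ← hw] at this
  exact Subtype.ext (smul_right_injective V (by norm_num) this)

/-- row `i` of the matrix with 16 bits per entry -/
noncomputable def mrow (m i : ℕ) : ℕ := sumN 24 fun k => Nat.shiftLeft (ea m i k) (Nat.mul 16 k)

theorem tabIs_mrow (m : ℕ) : TabIs 16 24 (mrow m) (ea m) :=
  ⟨fun j _ => by
    unfold mrow simd
    rw [sumN_eq]
    exact Finset.sum_congr rfl fun k _ => Nat.shiftLeft_eq _ _, fun _ _ _ _ => ea_lt _ _ _⟩

/-- all ones, 24 digits of 16 bits -/
def o24 : ℕ := nat_lit 0x100010001000100010001000100010001000100010001000100010001000100010001000100010001000100010001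

theorem o24_eq : o24 = simd 16 24 fun _ => 1 := by decide +kernel

/-- `m₃` is the product `m₁ m₂` -/
noncomputable def mm (m₁ m₂ m₃ : ℕ) : Bool := appChk o24 16 m₁ (mrow m₂) (mrow m₃)

theorem MIs.mm {g h : Co0} {m₁ m₂ m₃ : ℕ} (hg : MIs g m₁) (hh : MIs h m₂) (hc : mm m₁ m₂ m₃ = true) :
    MIs (g * h) m₃ := by
  intro p
  have := appChk_spec le_rfl o24_eq (tabIs_mrow m₂) (tabIs_mrow m₃) le_rfl hc (idx_lt p)
  change LL.tm m₁ (col m₂ _) = (8 : ℤ) • col m₃ _ at this
  rw [← hh p, hg.tm, ← mul_smul] at this
  exact smul_right_injective V (by norm_num) this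

/-- the columns are orthogonal of norm 64 -/
noncomputable def gramChk (m : ℕ) : Bool :=
  force (Nat.mul 16 (sumN 24 (mrow m))) fun S => allB 24 fun j =>
    Nat.beq (Nat.add (lin (fun i => ea m i j) (mrow m)) (Nat.mul 6144 o24))
      (Nat.add (Nat.add (Nat.mul (Nat.mul 16 (sumN 24 fun i => ea m i j)) o24) S) (Nat.shiftLeft 64 (Nat.mul 16 j)))

theorem gramChk_spec {m : ℕ} (h : gramChk m = true) {j k : ℕ} (hj : j < 24) (hk : k < 24) :
    dotInt (col m j) (col m k) = if k = j then 64 else 0 := by
  unfold gramChk at h
  rw [force_eq] at h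
  have := allB_spec h j hj
  rw [Nat.beq_eq, lin_eq (tabIs_mrow m).1, sumN_simd (tabIs_mrow m).1, o24_eq, sumN_eq] at this
  change _ + 6144 * _ = 16 * _ * _ + 16 * _ + 64 <<< (16 * j) at this
  rw [simd_single hj, simd_mul, simd_mul, simd_mul, simd_add, simd_add, simd_add] at this
  have := simd_inj (fun k hk => by
    have := sum24_le (f := fun i => ea m i j * ea m i k) (c := 32 * 32) fun i _ =>
      Nat.mul_le_mul (ea_lt _ _ _).le (ea_lt _ _ _).le
    omega) (fun k hk => by
    have h1 := sum24_le (f := fun i => ea m i j) (c := 32) fun j hj => (ea_lt _ _ _).le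
    have h2 := sum24_le (f := fun i => ea m i k) (c := 32) fun j hj => (ea_lt _ _ _).le
    split_ifs <;> omega) this k hk
  unfold dotInt
  rw [sum_gpt, Finset.sum_congr rfl (g := fun i => ((ea m i j * ea m i k : ℕ) : ℤ) - 16 * (ea m i k : ℕ) -
    16 * (ea m i j : ℕ) + 256) fun i hi => by
      rw [col, col, tv_gpt _ _ _ (Finset.mem_range.mp hi), tv_gpt _ _ _ (Finset.mem_range.mp hi)]
      push_cast; ring,
    Finset.sum_add_distrib, Finset.sum_sub_distrib, Finset.sum_sub_distrib, ← Finset.mul_sum, ← Finset.mul_sum,
    ← Nat.cast_sum, ← Nat.cast_sum, ← Nat.cast_sum]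
  simp only [Finset.sum_const, Finset.card_range, nsmul_eq_mul]
  zify at this ⊢
  linear_combination this

theorem tm_add (m : ℕ) (x z : V) : tm m (x + z) = tm m x + tm m z := by
  simp only [tm, Pi.add_apply, add_smul, Finset.sum_add_distrib]

theorem sqNorm_tm {m : ℕ} (h : gramChk m = true) (x : V) : sqNorm (tm m x) = 64 * sqNorm x := by
  have hl : ∀ (s : Finset GolayPt) (c : GolayPt → V) (z : V), dotInt (∑ p ∈ s, c p) z = ∑ p ∈ s, dotInt (c p) z := by
    intro s c z
    simp only [dotInt, Finset.sum_apply, Finset.sum_mul]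
    exact Finset.sum_comm
  rw [sqNorm_eq_dot, tm, hl, sqNorm, Finset.mul_sum]
  refine Finset.sum_congr rfl fun p _ => ?_
  rw [dot_comm, hl, Finset.sum_eq_single p (fun q _ hq => by
    rw [dot_smul_left, dot_smul_right, gramChk_spec h (idx_lt q) (idx_lt p),
      if_neg fun e => hq (idx_injective e).symm]; simp) (by simp), dot_smul_left, dot_smul_right,
    gramChk_spec h (idx_lt p) (idx_lt p), if_pos rfl]
  ring

/-- coordinates of 37 generators of the lattice -/
def gT37 : ℕ := nat_lit 0x10000c000c000c000c000c000c000c000c000c000c000c000c000c000c000c000c000c000c000c000c000c000c000c000a000a000800080008000a000a000a0008000a0008000a00050008000c0008000800080008000800080008000800080008000800080008000800080008000800080008000800080008000a0008000a00080008000a00080008000a000a000a000a000900080008000c000800080008000800080008000800080008000800080008000800080008000800080008000800080008000a000a000a000a0008000a000a0008000a0008000800080009000800080008000c000800080008000800080008000800080008000800080008000800080008000800080008000800080008000a000a000a000a0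008000a000a0008000a0008000800090008000800080008000c000800080008000800080008000800080008000800080008000800080008000800080008000800080008000a000a000a000a0008000a000a0008000a0008000900080008000800080008000c000800080008000800080008000800080008000800080008000800080008000800080008000800080008000a000a000a000a0008000a000a0008000a0009000800080008000800080008000c00080008000800080008000800080008000800080008000800080008000800080008000a0008000a0008000a0008000a000a000a00080008000a00090008000800080008000800080008000c0008000800080008000800080008000800080008000800080008000800080008000a000a000a000a000800080008000a00080008000a000a000900080008000800080008000800080008000c000800080008000800080008000800080008000800080008000800080008000a000a0008000a000a000a000800080008000a000a00080009000800080008000800080008000800080008000c000800080008000800080008000800080008000800080008000800080008000a000a0008000a000a000a000800080008000a000a00090008000800080008000800080008000800080008000c0008000800080008000800080008000800080008000800080008000a00080008000a00080008000a000a000a000a000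a0008000900080008000800080008000800080008000800080008000c0008000800080008000800080008000800080008000800080008000a00080008000a00080008000a000a000a000a000a0009000800080008000800080008000800080008000800080008000c00080008000800080008000800080008000800080008000a0008000800080008000800080008000800080008000800090008000800080008000800080008000800080008000800080008000c00080008000800080008000800080008000800080008000a0008000800080008000800080008000800080008000900080008000800080008000800080008000800080008000800080008000c00080008000800080008000800080008000800080008000a0008000800080008000800080008000800080009000800080008000800080008000800080008000800080008000800080008000c00080008000800080008000800080008000800080008000a0008000800080008000800080008000800090008000800080008000800080008000800080008000800080008000800080008000c00080008000800080008000800080008000800080008000a0008000800080008000800080008000900080008000800080008000800080008000800080008000800080008000800080008000c00080008000800080008000800080008000800080008000a00080008000800080008000800090008000800080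00800080008000800080008000800080008000800080008000800080008000c00080008000800080008000800080008000800080008000a0008000800080008000800090008000800080008000800080008000800080008000800080008000800080008000800080008000c00080008000800080008000800080008000800080008000a0008000800080008000900080008000800080008000800080008000800080008000800080008000800080008000800080008000c00080008000800080008000800080008000800080008000a0008000800080009000800080008000800080008000800080008000800080008000800080008000800080008000800080008000c00080008000800080008000800080008000800080008000a0008000800090008000800080008000800080008000800080008000800080008000800080008000800080008000800080008000c00080008000800080008000800080008000800080008000a0008000900080008000800080008000800080008000800080008000800080008000800080008000800080008000800080008000c00080008000800080008000800080008000800080008000a0009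

noncomputable def gX (j : ℕ) : ℕ := H16.get 592 gT37 j

def o37 : ℕ := nat_lit 0x1000100010001000100010001000100010001000100010001000100010001000100010001000100010001000100010001000100010001000100010001000100010001000100010001

theorem o37_eq : o37 = simd 16 37 fun _ => 1 := by decide +kernel

theorem tabIs_gX : TabIs 16 37 gX fun j => H16.get 16 (gX j) :=
  ⟨fun j _ => (simd_get (F := 16) (n := 37) (get_lt 592 _ _)).symm, by decide +kernel⟩

noncomputable def imgY (O o m : ℕ) (X : ℕ → ℕ) (i : ℕ) : ℕ :=
  fld O (Nat.sub (appL O o m X i) (appR O o m (Nat.mul 16 (sumN 24 X)) i)) 3 31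

theorem tabIs_imgY (hF : 16 ≤ F) (hO : O = simd F n fun _ => 1) (o m : ℕ) (X : ℕ → ℕ) :
    ∃ y, TabIs F n (imgY O o m X) y :=
  ⟨_, fun _ _ => fld_eq hO (w := 5) (by omega) rfl _, fun _ _ _ _ => Nat.mod_lt _ (by norm_num)⟩

/-- `m` is the matrix of an element of `Co0` -/
noncomputable def isCo (m : ℕ) : Bool :=
  andB (gramChk m) (andB (appChk o37 8 m gX (imgY o37 8 m gX)) (isLS o37 (imgY o37 8 m gX)))

theorem exists_of_isCo {m : ℕ} (h : isCo m = true) : ∃ g, MIs g m := by
  simp only [isCo, andB_iff] at h
  obtain ⟨h1, h2, h3⟩ := h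
  obtain ⟨y, hy⟩ := tabIs_imgY le_rfl o37_eq 8 m gX
  let T : V →+ V := AddMonoidHom.mk' (tm m) (tm_add m)
  let P : AddSubgroup V := (leechLattice.map (zsmulAddGroupHom 8)).comap T
  have hP : ∀ k < 37, tv 8 (fun j => H16.get 16 (gX j)) k ∈ P := fun k hk =>
    ⟨_, isLS_spec le_rfl o37_eq hy h3 (o := 16) (by norm_num) hk,
      (appChk_spec le_rfl o37_eq tabIs_gX hy (by norm_num) h2 hk).symm⟩
  have hle : leechLattice ≤ P := by
    refine leech_le ?_ (fun i => ?_) fun b hb => ?_
    · have : odd0 = tv 8 (fun j => H16.get 16 (gX j)) 0 := by decide +kernel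
      rw [this]; exact hP _ (by norm_num)
    · have : ∀ i, (Pi.single none 4 + Pi.single i 4 : V) = tv 8 (fun j => H16.get 16 (gX j)) (13 + idx i) := by
        decide +kernel
      rw [this]; exact hP _ (by have := idx_lt i; omega)
    · have : ∀ b < 12, (fun i => 2 * ind (toSet (H16.get 24 gRows b)) i) = tv 8 (fun j => H16.get 16 (gX j)) (1 + b) := by
        simp only [ind, mem_toSet]
        decide +kernel
      rw [this b hb]; exact hP _ (by omega)
  have hw : ∀ v : L, ∃ w : L, (8 : ℤ) • (w : V) = tm m v := fun v =>
    let ⟨w, hw, e⟩ := hle v.2; ⟨⟨w, hw⟩, e⟩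
  choose φ hφ using hw
  have h8 := smul_right_injective V (show (8 : ℤ) ≠ 0 by norm_num)
  obtain ⟨g, hg⟩ := exists_co0 (AddMonoidHom.mk' φ fun v w => Subtype.ext (h8 (by
    simp only [AddSubgroup.coe_add, smul_add, hφ, tm_add]))) fun v => by
      have := sqNorm_tm h1 v
      rw [← hφ, sqNorm_smul] at this
      change sqNorm (φ v : V) = _
      omega
  refine ⟨g, fun p => h8 ?_⟩
  rw [hg]
  change (8 : ℤ) • (φ (e8 p) : V) = (8 : ℤ) • _
  rw [hφ, tm, Finset.sum_eq_single p (fun q _ hq => by simp [coe_e8, hq]) (by simp)]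
  simp [coe_e8]

/-- the element with a checked matrix -/
noncomputable def coM (m : ℕ) (h : isCo m = true) : Co0 := (exists_of_isCo h).choose

theorem mIs_coM (m : ℕ) (h : isCo m = true) : MIs (coM m h) m := (exists_of_isCo h).choose_spec

/-- the identity matrix -/
def idM : ℕ := nat_lit 0xc4210842108421084210842108421086210842108421084210842108421084310842108421084210842108421084218842108421084210842108421084210c4210842108421084210842108421086210842108421084210842108421084310842108421084210842108421084218842108421084210842108421084210c4210842108421084210842108421086210842108421084210842108421084310842108421084210842108421084218842108421084210842108421084210c4210842108421084210842108421086210842108421084210842108421084310842108421084210842108421084218842108421084210842108421084210c4210842108421084210842108421086210842108421084210842108421084310842108421084210842108421084218842108421084210842108421084210c4210842108421084210842108421086210842108421084210842108421084310842108421084210842108421084218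

theorem mIs_one : MIs 1 idM := by
  intro p
  rw [one_smul, coe_e8]
  revert p
  decide +kernel

theorem MIs.eq_one {g : Co0} (h : MIs g idM) : g = 1 := h.unique mIs_one

attribute [irreducible] isLS nrmS dotT ea appL appR appChk mv mrow mm gramChk gX imgY isCo

end Cfsg.Agent.LL
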