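import Cfsg.Agent.H21.Leech8
import Cfsg.Agent.H21.Leech6
import Cfsg.Agent.H16.M24f

/-! Shapes of short vectors, transitivity of `Co0` and its order. -/

set_option autoImplicit false
set_option exponentiation.threshold 1000

namespace Cfsg.Agent.LL

open Cfsg Cfsg.Agent.H16 MulAction
open scoped symmDiff Pointwise

/-- level sets -/
def lv (x : V) (k : ℕ) : Finset GolayPt := Finset.univ.filter fun i => (x i).natAbs = k

theorem mem_lv {x : V} {k : ℕ} {i : GolayPt} : i ∈ lv x k ↔ (x i).natAbs = k := by simp [lv]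

/-- the point at infinity -/
scoped notation "pI" => (none : GolayPt)
/-- the point zero -/
scoped notation "pZ" => (some 0 : GolayPt)

/-- absolute values `a` on `A`, `b` on `B` and `d` elsewhere -/
def Sh (x : V) (a b d : ℕ) (A B : Finset GolayPt) : Prop :=
  ∀ i, (x i).natAbs = if i ∈ A then a else if i ∈ B then b else d

instance (x : V) (a b d : ℕ) (A B : Finset GolayPt) : Decidable (Sh x a b d A B) := by unfold Sh; infer_instance

theorem natAbs_le {x : V} (hn : sqNorm x ≤ 48) (i : GolayPt) : (x i).natAbs < 7 := by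
  have := sq_le_sqNorm x i
  have := abs_lt.mp (abs_lt_of_sq_lt_sq (show x i ^ 2 < 7 ^ 2 by omega) (by norm_num))
  omega

theorem sh_of {x : V} (hn : sqNorm x ≤ 48) (a b d : ℕ)
    (h : ∀ k < 7, k ≠ a → k ≠ b → k ≠ d → (lv x k).card = 0) : Sh x a b d (lv x a) (lv x b) := by
  intro i
  simp only [mem_lv]
  split_ifs with h1 h2
  · exact h1
  · exact h2
  · by_contra h3
    have := Finset.card_eq_zero.mp (h _ (natAbs_le hn i) h1 h2 h3)
    exact Finset.notMem_empty i (this ▸ mem_lv.mpr rfl)

theorem sum_lv {x : V} (hn : sqNorm x ≤ 48) (f : ℕ → ℕ) :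
    ∑ i, f (x i).natAbs = ∑ k ∈ Finset.range 7, (lv x k).card * f k := by
  rw [← Finset.sum_fiberwise_of_maps_to (t := Finset.range 7) (g := fun i => (x i).natAbs)
    fun i _ => Finset.mem_range.mpr (natAbs_le hn i)]
  refine Finset.sum_congr rfl fun k _ => ?_
  rw [← smul_eq_mul, ← Finset.sum_const, lv]
  exact Finset.sum_congr rfl fun i hi => by rw [(Finset.mem_filter.mp hi).2]

attribute [irreducible] lv

theorem lv_facts {x : V} (hx : x ∈ leechLattice) (hn : sqNorm x ≤ 48) :
    (lv x 0).card + (lv x 1).card + (lv x 2).card + (lv x 3).card + (lv x 4).card + (lv x 5).card + (lv x 6).card = 24 ∧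
    sqNorm x = ((lv x 1).card + 4 * (lv x 2).card + 9 * (lv x 3).card + 16 * (lv x 4).card + 25 * (lv x 5).card +
      36 * (lv x 6).card : ℕ) ∧
    (((lv x 1).card + (lv x 3).card + (lv x 5).card + (lv x 6).card = 0 ∧ lv x 2 ∈ gSets ∧
      ((lv x 2).card = 0 → (32 : ℤ) ∣ sqNorm x)) ∨
      (lv x 0).card + (lv x 2).card + (lv x 4).card + (lv x 6).card = 0) := by
  have h1 := sum_lv hn fun _ => 1
  have h2 := sum_lv hn fun k => k ^ 2
  have h3 := sum_lv hn fun k => k % 2
  have h4 := sum_lv hn fun k => if k % 4 = 2 then 1 else 0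
  rw [← Finset.card_filter] at h4
  simp only [Finset.sum_range_succ, Finset.sum_range_zero, Finset.sum_const, card_univ24, Nat.reducePow, Nat.reduceMod,
    Nat.reduceEqDiff, if_true, if_false, smul_eq_mul, OfNat.zero_ne_ofNat, OfNat.one_ne_ofNat] at h1 h2 h3 h4
  have h5 : sqNorm x = ((∑ i, (x i).natAbs ^ 2 : ℕ) : ℤ) := by
    rw [Nat.cast_sum]; exact Finset.sum_congr rfl fun i _ => by simp
  refine ⟨by omega, by omega, ?_⟩
  rcases exists_isL hx with ⟨C, h⟩ | ⟨C, h⟩
  · left
    have e1 : ∑ i, (x i).natAbs % 2 = 0 := Finset.sum_eq_zero fun i _ => by have := h.mod4 i; omega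
    have e2 : C = Finset.univ.filter fun i => (x i).natAbs % 4 = 2 := by
      ext i
      have := h.mod4 i
      by_cases a : i ∈ C <;> simp only [ind, a, if_true, if_false, Finset.mem_filter, Finset.mem_univ, true_and,
        true_iff, false_iff] at * <;> omega
    have e3 := card_of_mem_gSets h.code
    have e4 : (lv x 6).card = 0 := by rw [e2] at e3; omega
    have e5 : C = lv x 2 := by
      rw [e2]
      refine (Finset.eq_of_subset_of_card_le (fun i hi => ?_) (by omega)).symm
      simp [mem_lv.mp hi]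
    refine ⟨by omega, e5 ▸ h.code, fun h0 => ?_⟩
    rw [← e5, Finset.card_eq_zero] at h0
    subst h0
    exact h.dvd32
  · right
    have e1 : ∑ i, (x i).natAbs % 2 = ∑ _i : GolayPt, 1 := Finset.sum_congr rfl fun i _ => by have := h.mod4 i; omega
    simp only [Finset.sum_const, card_univ24, smul_eq_mul] at e1
    omega

theorem ar_sh {n : ℕ → ℕ} (h : n 0 + n 1 + n 2 + n 3 + n 4 + n 5 + n 6 = 24) (a b d : ℕ) (ha : a < 7) (hb : b < 7)
    (hd : d < 7) (hs : n a + n d + (if a = b then 0 else n b) = 24) (h1 : a ≠ d) (h2 : b ≠ d) :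
    ∀ k < 7, k ≠ a → k ≠ b → k ≠ d → n k = 0 := by
  intro k hk _ _ _
  have := Finset.sum_le_sum_of_subset (f := n) (show insert k (insert d {a, b}) ⊆ Finset.range 7 by
    intro i; simp only [Finset.mem_insert, Finset.mem_singleton, Finset.mem_range]; omega)
  rw [Finset.sum_insert (by simp [*]), Finset.sum_insert (by simp [h1.symm, h2.symm])] at this
  simp only [Finset.sum_range_succ, Finset.sum_range_zero] at this
  split_ifs at hs with e
  · subst e; simp only [Finset.pair_eq_singleton, Finset.sum_singleton] at this; omega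
  · rw [Finset.sum_pair e] at this; omega

theorem shape32 {x : V} (hx : x ∈ leechLattice) (hn : sqNorm x = 32) :
    (∃ A, A.card = 2 ∧ Sh x 4 4 0 A A) ∨ (∃ A ∈ octads, Sh x 2 2 0 A A) ∨ ∃ p, Sh x 3 3 1 {p} {p} := by
  obtain ⟨h1, h2, hf⟩ := lv_facts hx (by omega)
  have hs := fun a b d ha hb hd hs e1 e2 => sh_of (x := x) (by omega) a b d (ar_sh h1 a b d ha hb hd hs e1 e2)
  rw [hn] at h2
  obtain ⟨h3, h4, -⟩ | h3 := hf
  · have h5 := card_of_mem_gSets h4
    by_cases h : (lv x 2).card = 8
    · exact Or.inr (Or.inl ⟨_, mem_octads.mpr ⟨h4, h⟩, hs 2 2 0 (by norm_num) (by norm_num) (by norm_num)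
        (by clear * - h1 h2 h3 h; simp only [if_true]; omega) (by norm_num) (by norm_num)⟩)
    · exact Or.inl ⟨_, by clear * - h2 h3 h5 h; omega, hs 4 4 0 (by norm_num) (by norm_num) (by norm_num)
        (by clear * - h1 h2 h3 h h5; simp only [if_true]; omega) (by norm_num) (by norm_num)⟩
  · obtain ⟨p, hp⟩ := Finset.card_eq_one.mp (show (lv x 3).card = 1 by clear * - h1 h2 h3; omega)
    exact Or.inr (Or.inr ⟨p, hp ▸ hs 3 3 1 (by norm_num) (by norm_num) (by norm_num)
        (by clear * - h1 h2 h3; simp only [if_true]; omega) (by norm_num) (by norm_num)⟩)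

theorem shape48 {x : V} (hx : x ∈ leechLattice) (hn : sqNorm x = 48) :
    (∃ p, Sh x 5 5 1 {p} {p}) ∨ (∃ A ∈ dodecads, Sh x 2 2 0 A A) ∨ (∃ A, A.card = 3 ∧ Sh x 3 3 1 A A) ∨
      ∃ A ∈ octads, ∃ p ∉ A, Sh x 2 4 0 A {p} := by
  obtain ⟨h1, h2, hf⟩ := lv_facts hx (by omega)
  have hs := fun a b d ha hb hd hs e1 e2 => sh_of (x := x) (by omega) a b d (ar_sh h1 a b d ha hb hd hs e1 e2)
  rw [hn] at h2 hf
  obtain ⟨h3, h4, h6⟩ | h3 := hf
  · have h5 := card_of_mem_gSets h4
    by_cases h : (lv x 2).card = 8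
    · obtain ⟨p, hp⟩ := Finset.card_eq_one.mp (show (lv x 4).card = 1 by clear * - h2 h3 h; omega)
      refine Or.inr (Or.inr (Or.inr ⟨_, mem_octads.mpr ⟨h4, h⟩, p, fun h => ?_,
        hp ▸ hs 2 4 0 (by norm_num) (by norm_num) (by norm_num)
        (by clear * - h1 h2 h3 h; rw [if_neg (by norm_num)]; omega) (by norm_num) (by norm_num)⟩))
      exact absurd ((mem_lv.mp (hp ▸ Finset.mem_singleton_self p)).symm.trans (mem_lv.mp h)) (by norm_num)
    · have h7 : (lv x 2).card = 12 := by clear * - h2 h3 h5 h6 h; omega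
      exact Or.inr (Or.inl ⟨_, mem_dodecads.mpr ⟨h4, h7⟩, hs 2 2 0 (by norm_num) (by norm_num) (by norm_num)
        (by clear * - h1 h2 h3 h7; simp only [if_true]; omega) (by norm_num) (by norm_num)⟩)
  · by_cases h : (lv x 5).card = 0
    · exact Or.inr (Or.inr (Or.inl ⟨_, by clear * - h1 h2 h3 h; omega, hs 3 3 1 (by norm_num) (by norm_num) (by norm_num)
        (by clear * - h1 h2 h3 h; simp only [if_true]; omega) (by norm_num) (by norm_num)⟩))
    · obtain ⟨p, hp⟩ := Finset.card_eq_one.mp (show (lv x 5).card = 1 by clear * - h1 h2 h3 h; omega)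
      exact Or.inl ⟨p, hp ▸ hs 5 5 1 (by norm_num) (by norm_num) (by norm_num)
        (by clear * - h1 h2 h3 h; simp only [if_true]; omega) (by norm_num) (by norm_num)⟩

theorem Sh.abs_eq {x y : V} {a b d : ℕ} {A B : Finset GolayPt} {k : M24} (hx : Sh x a b d (k • A) (k • B))
    (hy : Sh y a b d A B) (i : GolayPt) : |x (k • i)| = |y i| := by
  have := hx (k • i)
  simp only [Finset.smul_mem_smul_finset_iff, ← hy i] at this
  exact Int.natAbs_eq_natAbs_iff.mp this |>.elim (congrArg abs) fun e => by rw [e, abs_neg]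

theorem orb_sh {x y : L} {a b d : ℕ} {A B : Finset GolayPt} {k : M24} (hx : Sh x a b d (k • A) (k • B))
    (hy : Sh y a b d A B) (hn : sqNorm (y : V) < 64) : ∃ g ∈ NN, g • x = y :=
  let ⟨c, e⟩ := orb_of_abs k⁻¹ (fun i => by rw [inv_inv]; exact hx.abs_eq hy i) hn.le (Or.inl hn)
  ⟨_, mono_mem_NN _ c, e⟩

/-- explicit lattice vectors -/
noncomputable def isLv (a : ℕ) : Bool := isLS 1 (H16.get 5 a)

noncomputable def vL (a : ℕ) : L := toL (vec a)

theorem coe_vL {a : ℕ} (h : isLv a = true) : (vL a : V) = vec a :=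
  coe_toL (isLS_spec le_rfl one_simd (tabIs_vec a) h (o := 16) (by norm_num) Nat.one_pos)

theorem exists_mv {m a b : ℕ} (h : andB (isCo m) (mv m a b) = true) {v w : L} (hv : (v : V) = vec a)
    (hw : (w : V) = vec b) : ∃ g : Co0, g • v = w :=
  let ⟨g, hg⟩ := exists_of_isCo (andB_iff.mp h).1
  ⟨g, hg.mv (andB_iff.mp h).2 hv hw⟩

/-- the standard vectors -/
abbrev U : L := Spor.leechU
abbrev U' : L := Spor.leechU'
abbrev Vv : L := Spor.leechV

def aU : ℕ := nat_lit 0xa42108421084210842108421084214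
def aU1 : ℕ := nat_lit 0xa4210842108421084210842108420c
def aV : ℕ := nat_lit 0x5bdef7bdef7bdef7bdef7bdef7bdef
def aB : ℕ := nat_lit 0x942108425084a10842108425094a52
def aC : ℕ := nat_lit 0x6c6318c6318c6318c6318c6318c631
def mB : ℕ := nat_lit 0x842108321085210842108421484214842108419064210842108329084210842108420c842106421084210a3210842108421084214842946421084210842108420c84210a421084210632108421084190a4210842108529084210a4290842108421083210842108429083214a42108429084210842108421084210842108420c8419464210842108421085210832108421084214842148320c64210842908421084210842108320ca421084190842108421084210832146421084190842108421084210842108421484210642108421063210842108421484210a421084210a32108421084290a421084210832908421084210842108421484194a42108421084210842108420c84294a421084210842108321083210842108420c84214842108429064210842108529084210a41908421084210832108421084190842108521085210842108420c84214a41908421084210852108421084290a42908421084210852108421084190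
def mC : ℕ := nat_lit 0x6ce318c6339c6317c6317c62f7c5ed8be356c62f7c6317c6319c62f7c5f18be318b5af9b62d7c6317c62f7c5f18be318b6337c6319c5b17c6337c5f18be318c5b37c6317c62d7b62f7b5f18be318c62f9c5b17c6317c6337b6719c66f7bdf18cdef8bdf38bded8be2f7c5ef7cdf18bdef8cdf38bdf18bdb37c5ef7bdf18cdef8be6f8bdf16ce338be318c6337b5b17b6317c5af7c5f19c5ef7cdf18be6f8bdef8cdf16be2f8be2dac62f7c6317c6319c62f7c5f18be318c62f9c6319c62d7c5af9c5f18bdb18c62f9c6317b5b17b62f7c5f18ce318c5af7c6317b6317c6339c5f19c5ef7bdf18bdf36cdef8bdf18ce2f8ce318c62f7c5ad7c5ad7c62f7c5f17c66f7be718be6f6bdef8bdf18be338be2d6c62f7c6317c6315c62f7c5f17c5ef7bdf18bdf38bdef8ce6d8be338bdb18c6337c62d7c6317c62f9c6718ce318c62f7b6319c6317b62f7c6719c5ef7be718bdef8be6f8be718bdaf8cdb18b62f7c6317c6317c5af7b5f1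
def aD : ℕ := nat_lit 0x8421084a12842528425284a1294a52
def mD : ℕ := nat_lit 0x7be316c5f17c6717c6318ce6f7b5ef7ce2d8c6719c5f17c6318bdef7b5ef8c66f7bdb38be2f8bdef7b6318bdb18b5ef7ce2f8be2f8bdf37c5b18bdb17ce318c5f17c5ed7b6318cdf37c5ef6c5ef7cdaf8bdb38bdef7c6318be317be2d8c5f17c6717b6318bdef9c66f7be316c6717b5f17b62d8bdef7c5ef8b5ef7be338cdaf8bdef7c6318be2d8c5ef7be2f8be2f6bd6f9c6318be318c5ef7bdaf8be2f8bdef7c5ad6be2d7bdb18b5f17c5f17b6318bdef7b5f38c66f7be2f6bdaf8bdf37c62d8be317be318c5f17c5f19c5b1abdef7c5ef6c5f37be2f8be2f8bdf37b6318be2d6b66f9be2f8be2f8bdef7c6316be317be316c5f19c5ed7c6318bdef7c6737be318c5ed7c5ed7c62d8bdef9b5ef8c5ef7ce2f6ce2f8bdef7b6316be317bdad8c5f17b5ed7c6318be6f7c5ef6c5ef7be336be2f8cdef7c5b18be317be318c5f17c5f15c5b16bdef7c5ef6c5ef7be2f8ce2f8bdef7c62d8cdb17be2d6b5ed7c5f17c6318bdf37c5ef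
def aT : ℕ := nat_lit 0x6c6318c6318c6318c6318c6318c5ad
def mT : ℕ := nat_lit 0x94a107325084a5284a10842129425273a10741d0849d283a108520e942528424e8398e942109424e73a5083a108325283a0e74210741ce93a5084a10841d283a0e94210941ce749d084a0c841d283a0e732107425274a5083a1073a1074250839d2a4a1084212741d274a14741d084a4e83a1084212741d274a1074250849ce84a108428e7424e841d283a12742109424e939cc83a1073a109425084a4e84a106420e941d28424e83a0e7420c941d2949d083a10841ce83a1274210931d273a5084a1074a10941d083a52849908420e7425273a10741d483a4e84a10842129424e74a1094250839ce83a0c8421294252841ce83a1294210741ce94a508399074a10941d0649d284a1084212941ce74a907425083a5283a108420e941ce8424e83a12742107424e749d064a1073a109425084a5283a10842127324e8425283a1294190741d2739d083a1084252a3a12942109425294a5084a10a425284a1274210941ce74a5083a10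
def aF : ℕ := nat_lit 0x942108425084a10842108425494a4e
def mF : ℕ := nat_lit 0x742108424e73a4e739d283a129424e849ce74a108429084210741d083a14849ce93a148420c84210941d084a1084a5273a108421084210741d0a4990839ce94a10842108421094250a399084a4e74a1083210842109424c84a10649d294a10842108420c7425084a1074210841ce939ce94a5284a1294252849d273a1064210842909425083a10742108424e949ce73a5283a0e741d294210841ce93a4e93a4e83a12741ce942108424e739ce749ce84a12741d2742108425293a5274a5284a12741ce839d274a108421083210951d084a10849d273a10a4210841909425083a1084a52949908421064210941d083a10839d274a108421085210931d084a1083a5274a148420c842107425083a1074210841d2739d2939d283a12741d263a4e73a10842108420c941d083a10849ce74a108419084210741d083a0c74210841ce74a4e949d284a0e741ce839d293a108321084210741cc83a1084a5294a9084210a4210941d083a10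
def aW1 : ℕ := nat_lit 0x842108421084210842108421085290
def mW1 : ℕ := nat_lit 0xa421084210842108421084190a4214842948421084210852106421084210852108420c84210a42148421084210842108429083210842108421085290832108421484210a4214842108421084210832108428c842108420c842108421064210642108419085210842108418c842108421085210642108421084210842908521084210842108329084210a42106421084290852108421084194842108421085210a42108421084210832108418c842108421484210842108321084194842108420c84210842108419083210842108421083290842108419085210842108421085290842108321084294842108421484210832108420c84210a420c8421084210852108421484210a420c84210842108421064210642108429083210842108428c842108421085210a42108421084210a421064210841908321084210a421084210842108421084290a420ca4210842108421084210841906420ca42108421084210842108429064214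
def pW1 : ℕ := nat_lit 0x842108421084210832108421085210
def aW2 : ℕ := nat_lit 0x942108425084a108421084250949ce
def mW2 : ℕ := nat_lit 0xb4210841d084a1084210841d0739d2849ce73a127424e93a4e93a0e8421083a4e74a0e94252939ce73a0e84210839ce74a0e741d273a5293a1284210839ce73a1274252749ce74a128421083a4e93a0e741ce93a4e74a1284210942108425083a10842108415094a4e83a4e94a127424e949d293a1284210849d294a0e7424e739ce73a1284210942108415083a10842108425094a4e84a5274a12741d294a4e73a128421083a5293a129425273a4e93a1284210839d294a0e7425294a4e94a0e84210839d274a129424e93a5274a1284210849ce94a12941d2939ce94a1284210839ce94a12941ce74a4e73a0e84210849ce93a0e9425294a5273a128421084a4e94a127425273a5274a0e84210942108425083a10842108425092a4e839d293a12741d2939d273a0e84210942108425083a10842108425054a4e942108425085a10842108425094a4e74210841d084a1084210841d073ad2942108425083a10842108425094a56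
def pW2 : ℕ := nat_lit 0x742108421284a1084a0e9421084a12
def aW3 : ℕ := nat_lit 0x842108421084250942128425294a50
def mW3 : ℕ := nat_lit 0xa4a10842509421094a12841ce8421484a10831d09421093a8e8424e8421084a10842509421073a12852528521084a10841d47421093a12841d26421083a10842549421074a0e8424e6421084a0c841d07421474a128424e8421084a90a42507421073a0e841ce8421083a10832507421074a92841d28421084a10842507421094a0e642528419083a90a41d09421094a1284252842109425274a12839d28425093a10949ce83a0c842509421493a0e841d2842109424e73a0e84a4e841d093a10749ce84a10841d09329074a0e841d28421083a10841d07421094a0e851ce852109424e73a12839ce841d074a1093a4e83a10841d09421073a12641ce8419083a10842507329093a128424e84210941d293a1284a52841d073a1094a4e9425274a0e84a528425074a1073a4e941d293a0e839d2841d094a10739ce941ce94a1284a4e8425094a10939ce941ce94a0e839ce8425073a1074a4ea3a10841d07421073a0e8425284214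
def pW3 : ℕ := nat_lit 0x8421074a1094a5084210841d094a10
def aW4 : ℕ := nat_lit 0x8c62f8c5ef7bdf18c6318c6318bdaf
def mW4 : ℕ := nat_lit 0xabe6f7c6317c5f18be2f7c5ef8c6338bdef9c6317c5f18be2f9b5ef8b5af8bdf39b6317c5ed8bdaf7c5ef8c62f7c6318be6f6ce2f7c6716be317bdf18bdef7b5b17c5f16be2f7b5ef6c62f8bdf37c6317c5f18ce2f9c66f6c62f7c6318bdef8be2f7c66d8be2d9cdf17c6318bdef8bdaf9c6718bdb17be717c6316bdf38cdaf7c5f18be319bdf17c62d8bdef6bdaf7c5f18ce2d7bdf17b6318bdef6be337c5f18be319be718bdef9c6319c5f16ce337c5ef8c62f8bdef7c5b17c66d8ce2f7c5ef8b62f8cdf37c6317b5f16be2f7c5ef8b62f8bdef7c6317b5ed8be337b66f8c62f8cdef7c62d7c5f18cdaf7b5ef8c62f8bdef7b62d9c5f18be2f7c66f8b62f8cdef7b6317c6718be339c5ef8c62f8bdef7c62d7c5ed6be2f9c5f38c62f8bdf37c5ad7c5f18be337c5ef8c5af8cdef9c5b17c5f18be2f7c6738c62f7c6318cdef8ce2f7b5f18be2d7be716bd6f7c6317c5f18be2f7c5ef8c6339c5b18bdef8be2f7c5f18be317bdf5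
def pW4 : ℕ := nat_lit 0x8b62f8c6317be317be317c62f8c62f

theorem coe_U : (U : V) = vec aU := by decide +kernel
theorem coe_U' : (U' : V) = vec aU1 := by decide +kernel
theorem coe_V : (Vv : V) = vec aV := by decide +kernel
theorem norm_U : sqNorm (U : V) = 32 := by decide +kernel
theorem norm_U' : sqNorm (U' : V) = 32 := by decide +kernel
theorem norm_V : sqNorm (Vv : V) = 48 := by decide +kernel
theorem coe_B : (vL aB : V) = vec aB := coe_vL (by decide +kernel)
theorem coe_C : (vL aC : V) = vec aC := coe_vL (by decide +kernel)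

theorem nn32 {x : L} (hn : sqNorm (x : V) = 32) :
    (∃ i, |(x : V) i| = 4) ∧ (∃ g ∈ NN, g • x = U) ∨ (∃ i, |(x : V) i| = 2) ∧ (∃ g ∈ NN, g • x = vL aB) ∨
      (∃ i, |(x : V) i| = 3) ∧ ∃ g ∈ NN, g • x = vL aC := by
  rcases shape32 x.2 hn with ⟨A, hA, h⟩ | ⟨A, hA, h⟩ | ⟨p, h⟩
  · obtain ⟨k, rfl⟩ := M24_subset (s := {pI, pZ}) (t := A) (by rw [hA]; rfl) (by decide)
    have hy : Sh U 4 4 0 {pI, pZ} {pI, pZ} := by decide +kernel
    exact Or.inl ⟨⟨_, h.abs_eq hy pI⟩, orb_sh h hy (by rw [norm_U]; norm_num)⟩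
  · obtain ⟨k, rfl⟩ := M24_octad oct0_mem hA
    have hy : Sh (vL aB) 2 2 0 (toSet oct0) (toSet oct0) := by rw [coe_B]; decide +kernel
    exact Or.inr (Or.inl ⟨⟨_, (h.abs_eq hy pI).trans (by rw [coe_B]; decide +kernel)⟩,
      orb_sh h hy (by rw [coe_B]; decide +kernel)⟩)
  · obtain ⟨k, rfl⟩ := M24_one pI p
    rw [← Finset.smul_finset_singleton] at h
    have hy : Sh (vL aC) 3 3 1 {pI} {pI} := by rw [coe_C]; decide +kernel
    exact Or.inr (Or.inr ⟨⟨_, (h.abs_eq hy pI).trans (by rw [coe_C]; decide +kernel)⟩,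
      orb_sh h hy (by rw [coe_C]; decide +kernel)⟩)

theorem to_U {x : L} (hn : sqNorm (x : V) = 32) : ∃ g : Co0, g • x = U := by
  rcases nn32 hn with ⟨-, g, -, e⟩ | ⟨-, g, -, e⟩ | ⟨-, g, -, e⟩
  · exact ⟨g, e⟩
  · obtain ⟨h, e'⟩ := exists_mv (m := mB) (by decide +kernel) coe_B coe_U
    exact ⟨h * g, by rw [mul_smul, e, e']⟩
  · obtain ⟨h, e'⟩ := exists_mv (m := mC) (by decide +kernel) coe_C coe_U
    exact ⟨h * g, by rw [mul_smul, e, e']⟩

theorem to_V {x : L} (hn : sqNorm (x : V) = 48) : ∃ g : Co0, g • x = Vv := by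
  have key : ∀ {a m : ℕ}, andB (isLv a) (andB (isCo m) (mv m a aV)) = true → ((vL a : V) = vec a →
      ∃ g ∈ NN, g • x = vL a) → ∃ g : Co0, g • x = Vv := by
    intro a m h1 h2
    have ha := coe_vL (andB_iff.mp h1).1
    obtain ⟨g, -, e⟩ := h2 ha
    obtain ⟨h, e'⟩ := exists_mv (andB_iff.mp h1).2 ha coe_V
    exact ⟨h * g, by rw [mul_smul, e, e']⟩
  rcases shape48 x.2 hn with ⟨p, h⟩ | ⟨A, hA, h⟩ | ⟨A, hA, h⟩ | ⟨A, hA, p, hp, h⟩
  · obtain ⟨k, rfl⟩ := M24_one pI p
    rw [← Finset.smul_finset_singleton] at h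
    obtain ⟨g, -, e⟩ := orb_sh (y := Vv) h (by decide +kernel) (by rw [norm_V]; norm_num)
    exact ⟨g, e⟩
  · obtain ⟨k, rfl⟩ := M24_dodecad sqD_mem hA
    exact key (a := aD) (m := mD) (by decide +kernel) fun ha =>
      orb_sh h (by rw [ha]; decide +kernel) (by rw [ha]; decide +kernel)
  · obtain ⟨k, rfl⟩ := M24_subset (s := toSet 8388611) (t := A) (by rw [hA]; decide +kernel) (by decide +kernel)
    exact key (a := aT) (m := mT) (by decide +kernel) fun ha =>
      orb_sh h (by rw [ha]; decide +kernel) (by rw [ha]; decide +kernel)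
  · obtain ⟨k, rfl, rfl⟩ := flag_oct_out hA hp
    rw [← Finset.smul_finset_singleton] at h
    exact key (a := aF) (m := mF) (by decide +kernel) fun ha =>
      orb_sh h (by rw [ha]; decide +kernel) (by rw [ha]; decide +kernel)

theorem trans_of_to {x y z : L} (hx : ∃ g : Co0, g • x = z) (hy : ∃ g : Co0, g • y = z) : ∃ g : Co0, g • x = y :=
  let ⟨g, e⟩ := hx; let ⟨h, e'⟩ := hy; ⟨h⁻¹ * g, by rw [mul_smul, e, ← e', inv_smul_smul]⟩

theorem from_U {x : L} (hn : sqNorm (x : V) = 32) : ∃ g : Co0, g • U = x := trans_of_to ⟨1, one_smul _ _⟩ (to_U hn)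
theorem from_V {x : L} (hn : sqNorm (x : V) = 48) : ∃ g : Co0, g • Vv = x := trans_of_to ⟨1, one_smul _ _⟩ (to_V hn)

/-! ### vectors orthogonal to `U` -/

theorem U_apply (i : GolayPt) : (U : V) i = if i = pI ∨ i = pZ then 4 else 0 := rfl

theorem mono_U {k : M24} (hk : k • ({pI, pZ} : Finset GolayPt) = {pI, pZ}) {c : gSets} (h1 : pI ∉ c.1)
    (h2 : pZ ∉ c.1) : mono k c • U = U := by
  refine Subtype.ext (funext fun i => ?_)
  have : k⁻¹ • i = pI ∨ k⁻¹ • i = pZ ↔ i = pI ∨ i = pZ := by
    have := mem_inv_smul (g := k) (x := i) (s := {pI, pZ})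
    simpa [hk] using this
  rw [mono_apply, U_apply, U_apply]
  simp only [this]
  split_ifs with a b
  · rcases b with rfl | rfl <;> contradiction
  all_goals rfl

theorem orb_fixU {w y : L} {k : M24} (hk : k • ({pI, pZ} : Finset GolayPt) = {pI, pZ})
    (habs : ∀ i, |(w : V) (k • i)| = |(y : V) i|) (h1 : (w : V) (k • pI) = (y : V) pI)
    (h2 : (w : V) (k • pZ) = (y : V) pZ) (hy : sqNorm ((U : V) + (y : V)) = 64 ∧ 0 ≤ (y : V) pI ∧
      -4 < (y : V) pZ) : ∃ g ∈ NN, g • U = U ∧ g • w = y := by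
  have hU : ∀ i, (U : V) (k • i) = (U : V) i := fun i => by
    have := mono_apply k⁻¹ c0 U i
    rw [mono_U (by rw [inv_smul_eq_iff, hk]) (by simp [c0]) (by simp [c0]), inv_inv] at this
    simpa [c0] using this.symm
  have u1 : (U : V) pI = 4 := rfl
  have u2 : (U : V) pZ = 4 := rfl
  obtain ⟨c, e⟩ := orb_of_abs (x := U + w) (y := U + y) k⁻¹ (fun i => by
    simp only [inv_inv, AddSubgroup.coe_add, Pi.add_apply, hU]
    by_cases a : i = pI ∨ i = pZ
    · rcases a with rfl | rfl
      · rw [h1]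
      · rw [h2]
    · rw [U_apply, if_neg a, zero_add, zero_add, habs]) hy.1.le (Or.inr ⟨pI, by
      simp only [AddSubgroup.coe_add, Pi.add_apply, u1]; rw [lt_abs]; omega⟩)
  have e1 := mono_apply k⁻¹ c (U + w) pI
  have e2 := mono_apply k⁻¹ c (U + w) pZ
  simp only [e, inv_inv, AddSubgroup.coe_add, Pi.add_apply, hU, h1, h2, u1, u2] at e1 e2
  have hm : mono k⁻¹ c • U = U := mono_U (by rw [inv_smul_eq_iff, hk]) (fun h => by rw [if_pos h] at e1; omega)
    (fun h => by rw [if_pos h] at e2; omega)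
  exact ⟨_, mono_mem_NN _ _, hm, by rwa [smul_add, hm, add_right_inj] at e⟩

theorem smul_pair {k : M24} {p q : GolayPt} (h : k • pI = p ∧ k • pZ = q) :
    k • ({pI, pZ} : Finset GolayPt) = {p, q} := by
  rw [Finset.smul_finset_insert, Finset.smul_finset_singleton, h.1, h.2]

theorem smul_pair' {k : M24} (h : k • pI = pZ ∧ k • pZ = pI) :
    k • ({pI, pZ} : Finset GolayPt) = {pI, pZ} := by rw [smul_pair h, Finset.pair_comm]

def repO : List ℕ := [aU1, aW1, aW2, aW3, aW4]

theorem repO_isL : ∀ a ∈ repO, (vL a : V) = vec a := fun a ha => coe_vL (allL_iff.mp (by decide +kernel) a ha)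

theorem vL_U' : vL aU1 = U' := Subtype.ext ((repO_isL _ (by simp [repO])).trans coe_U'.symm)

theorem orth_class {w : L} (hn : sqNorm (w : V) = 32) (hd : dotInt (U : V) w = 0) :
    ∃ a ∈ repO, ∃ g ∈ NN, g • U = U ∧ g • w = vL a := by
  have h0 : (w : V) pZ = -(w : V) pI := by have := dot_vecU w; change dotInt (U : V) w = _ at this; omega
  have hne : (pI : GolayPt) ≠ pZ := by decide
  rcases shape32 w.2 hn with ⟨A, hA, h⟩ | ⟨A, hA, h⟩ | ⟨p, h⟩
  · have a1 := h pI
    have a2 := h pZ
    by_cases hp : pI ∈ A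
    · have hq : pZ ∈ A := by by_contra hq; simp only [hp, hq, if_true, if_false] at a1 a2; omega
      have eA : A = {pI, pZ} := (Finset.eq_of_subset_of_card_le (by
        intro i hi; rcases Finset.mem_insert.mp hi with rfl | hi; exacts [hp, Finset.mem_singleton.mp hi ▸ hq])
        (by rw [hA]; rfl)).symm
      rw [if_pos hp] at a1
      have hy : Sh (vL aU1) 4 4 0 {pI, pZ} {pI, pZ} := by rw [vL_U']; decide +kernel
      have key : ∀ k : M24, k • ({pI, pZ} : Finset GolayPt) = {pI, pZ} → (w : V) (k • pI) = 4 →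
          (w : V) (k • pZ) = -4 → ∃ a ∈ repO, ∃ g ∈ NN, g • U = U ∧ g • w = vL a := by
        intro k hk h1 h2
        refine ⟨aU1, by simp [repO], permHom k⁻¹, mono_mem_NN _ _,
          mono_U (by rw [inv_smul_eq_iff, hk]) (by simp [c0]) (by simp [c0]), Subtype.ext (funext fun i => ?_)⟩
        have := (show Sh w 4 4 0 (k • {pI, pZ}) (k • {pI, pZ}) by rwa [hk, ← eA]).abs_eq hy i
        rw [perm_apply, inv_inv, vL_U'] at *
        by_cases a : i = pI
        · rw [a, h1]; rfl
        by_cases b : i = pZ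
        · rw [b, h2]; rfl
        have : (U' : V) i = 0 := by simp [Spor.leechU', Spor.vecU', a, b]
        simp_all
      by_cases hs : (w : V) pI = 4
      · exact key 1 (one_smul _ _) hs (by rw [one_smul]; omega)
      · obtain ⟨k, hk⟩ := M24_two hne hne.symm
        exact key k (smul_pair' hk) (by rw [hk.1]; omega) (by rw [hk.2]; omega)
    · have hq : pZ ∉ A := by intro hq; simp only [hp, hq, if_true, if_false] at a1 a2; omega
      obtain ⟨p, q, hpq, rfl⟩ := Finset.card_eq_two.mp hA
      simp only [Finset.mem_insert, Finset.mem_singleton, not_or] at hp hq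
      obtain ⟨k, hk⟩ := M24_tuple (k := 4) (by norm_num) ![pI, pZ, some 1, some 2] ![pI, pZ, p, q] (by decide)
        (by intro i j; fin_cases i <;> fin_cases j <;> simp [hp, hq, hpq, hpq.symm, Ne.symm hp.1, Ne.symm hp.2,
          Ne.symm hq.1, Ne.symm hq.2])
      have k1 : k • pI = pI := hk 0
      have k2 : k • pZ = pZ := hk 1
      have e : k • ({some 1, some 2} : Finset GolayPt) = {p, q} := by
        rw [Finset.smul_finset_insert, Finset.smul_finset_singleton]; exact congrArg₂ _ (hk 2) (congrArg _ (hk 3))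
      have ha := repO_isL aW1 (by simp [repO])
      rw [← e] at h
      simp only [Finset.mem_insert, Finset.mem_singleton, hp, hq, or_self, if_false] at a1 a2
      exact ⟨aW1, by simp [repO], orb_fixU (smul_pair ⟨k1, k2⟩) (h.abs_eq (by rw [ha]; decide +kernel))
        (by rw [k1, ha, show (w : V) pI = 0 by omega]; decide +kernel)
        (by rw [k2, ha, show (w : V) pZ = 0 by omega]; decide +kernel) (by rw [ha]; decide +kernel)⟩
  · have a1 := h pI
    have a2 := h pZ
    by_cases hp : pI ∈ A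
    · have hq : pZ ∈ A := by by_contra hq; simp only [hp, hq, if_true, if_false] at a1 a2; omega
      rw [if_pos hp] at a1
      have ha := repO_isL aW2 (by simp [repO])
      have key : ∀ k : M24, k • toSet oct0 = A → k • ({pI, pZ} : Finset GolayPt) = {pI, pZ} →
          (w : V) (k • pI) = 2 → (w : V) (k • pZ) = -2 → ∃ a ∈ repO, ∃ g ∈ NN, g • U = U ∧ g • w = vL a := by
        rintro k rfl hk h1 h2
        exact ⟨aW2, by simp [repO], orb_fixU hk (h.abs_eq (by rw [ha]; decide +kernel))
          (by rw [h1, ha]; decide +kernel) (by rw [h2, ha]; decide +kernel) (by rw [ha]; decide +kernel)⟩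
      by_cases hs : (w : V) pI = 2
      · obtain ⟨k, h1, h2, h3⟩ := flag_oct_in2 hA hne hp hq
        exact key k h1 (smul_pair ⟨h2, h3⟩) (by rw [show k • pI = pI from h2, hs])
          (by rw [show k • pZ = pZ from h3]; omega)
      · obtain ⟨k, h1, h2, h3⟩ := flag_oct_in2 hA hne.symm hq hp
        exact key k h1 (smul_pair' ⟨h2, h3⟩) (by rw [show k • pI = pZ from h2]; omega)
          (by rw [show k • pZ = pI from h3]; omega)
    · have hq : pZ ∉ A := by intro hq; simp only [hp, hq, if_true, if_false] at a1 a2; omega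
      obtain ⟨k, ⟨k1, k2⟩, rfl⟩ := code_trans k22G_inK (Q := fun s => s.card = 8 ∧ pI ∉ s ∧ pZ ∉ s)
        (fun m => andB (Nat.beq (pc24 m) 8) (andB (notB (tb m 23)) (notB (tb m 0)))) (fun m hm => by
          simp only [andB_iff, Nat.beq_eq, card_toSet, notB_iff, tb_eq, mem_toSet]; rfl) (b := 10558 % 4096) (by norm_num) (by decide +kernel) (s := toSet 10558)
        (toSet_mem_of_isCode (by decide +kernel)) (by decide +kernel) (mem_octads.mp hA).1 ⟨(mem_octads.mp hA).2, hp, hq⟩
      replace k1 : k • pI = pI := k1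
      replace k2 : k • pZ = pZ := k2
      have ha := repO_isL aW3 (by simp [repO])
      simp only [hp, hq, if_false] at a1 a2
      exact ⟨aW3, by simp [repO], orb_fixU (smul_pair ⟨k1, k2⟩) (h.abs_eq (by rw [ha]; decide +kernel))
        (by rw [k1, ha, show (w : V) pI = 0 by omega]; decide +kernel)
        (by rw [k2, ha, show (w : V) pZ = 0 by omega]; decide +kernel) (by rw [ha]; decide +kernel)⟩
  · have a1 := h pI
    have a2 := h pZ
    have hp : pI ≠ p := by rintro rfl; simp at a1 a2; omega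
    have hq : pZ ≠ p := by rintro rfl; simp at a1 a2; omega
    simp only [Finset.mem_singleton, hp, if_false] at a1
    have ha := repO_isL aW4 (by simp [repO])
    have key : ∀ k : M24, k • (some 1 : GolayPt) = p → k • ({pI, pZ} : Finset GolayPt) = {pI, pZ} →
        (w : V) (k • pI) = 1 → (w : V) (k • pZ) = -1 → ∃ a ∈ repO, ∃ g ∈ NN, g • U = U ∧ g • w = vL a := by
      rintro k rfl hk h1 h2
      rw [← Finset.smul_finset_singleton] at h
      exact ⟨aW4, by simp [repO], orb_fixU hk (h.abs_eq (by rw [ha]; decide +kernel))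
        (by rw [h1, ha]; decide +kernel) (by rw [h2, ha]; decide +kernel) (by rw [ha]; decide +kernel)⟩
    by_cases hs : (w : V) pI = 1
    · obtain ⟨k, h1, h2, h3⟩ := M24_three (r := some 1) hne (by decide) (by decide) hne hp hq
      exact key k h3 (smul_pair ⟨h1, h2⟩) (by rw [h1, hs]) (by rw [h2]; omega)
    · obtain ⟨k, h1, h2, h3⟩ := M24_three (r := some 1) hne (by decide) (by decide) hne.symm hq hp
      exact key k h3 (smul_pair' ⟨h1, h2⟩) (by rw [h1]; omega) (by rw [h2]; omega)

end Cfsg.Agent.LL
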