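import Cfsg.Agent.H21.Monster

/-! Coordinates on the Leech lattice modulo two. -/

set_option autoImplicit false
set_option exponentiation.threshold 1000
set_option linter.style.haveILetI false

namespace Cfsg.Agent.LL

open Cfsg Cfsg.Agent.H16 MulAction
open scoped Pointwise

/-- additive maps of bit vectors -/
def XL (F : ℕ → ℕ) : Prop := ∀ a b, F (a ^^^ b) = F a ^^^ F b

theorem XL.zero {F : ℕ → ℕ} (h : XL F) : F 0 = 0 := by simpa using h 0 0

theorem XL.comp {F G : ℕ → ℕ} (h : XL F) (h' : XL G) : XL fun x => F (G x) := fun a b => by
  simp only [h' a b, h _ _]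

theorem XL.xor {F G : ℕ → ℕ} (h : XL F) (h' : XL G) : XL fun x => F x ^^^ G x := fun a b => by
  simp only [h a b, h' a b]; ac_rfl

theorem xl_id : XL fun x => x := fun _ _ => rfl

theorem XL.ext {F G : ℕ → ℕ} (h : XL F) (h' : XL G) {n : ℕ} (e : ∀ j < n, F (2 ^ j) = G (2 ^ j)) :
    ∀ x < 2 ^ n, F x = G x := by
  induction n with
  | zero => intro x hx; rw [show x = 0 by simpa using hx, h.zero, h'.zero]
  | succ n ih =>
    intro x hx
    have ih' := ih fun j hj => e j (by omega)
    by_cases hn : x < 2 ^ n
    · exact ih' x hn
    · have h1 : x ^^^ 2 ^ n < 2 ^ n := lt_two_pow_of_bits fun j hj => by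
        rw [Nat.testBit_xor, Nat.testBit_two_pow] at hj
        rcases lt_trichotomy j n with h | rfl | h
        · exact h
        · simp [Nat.testBit_of_two_pow_le_and_two_pow_add_one_gt (not_lt.mp hn) hx] at hj
        · rw [Nat.testBit_lt_two_pow (hx.trans_le (Nat.pow_le_pow_right (by norm_num) h))] at hj
          simp at hj; omega
      have h2 : x = (x ^^^ 2 ^ n) ^^^ 2 ^ n := by simp
      rw [h2, h, h', ih' _ h1, e n (by omega)]

/-- the linear map with the columns `get w M i`, `i < k` -/
noncomputable def xl (w M k x : ℕ) : ℕ :=
  Nat.rec 0 (fun i acc => ifB (tb x i) (Nat.xor acc (H16.get w M i)) acc) k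

theorem xl_succ (w M k x : ℕ) :
    xl w M (k + 1) x = if x.testBit k then xl w M k x ^^^ H16.get w M k else xl w M k x := by
  rw [← tb_eq, ← ifB_eq]; rfl

theorem xl_XL (w M k : ℕ) : XL (xl w M k) := fun a b => by
  induction k with
  | zero => exact (Nat.xor_self 0).symm
  | succ k ih =>
    rw [xl_succ, xl_succ, xl_succ, ih, Nat.testBit_xor]
    cases a.testBit k <;> cases b.testBit k <;> simp
    · ac_rfl
    · ac_rfl
    · rw [Nat.xor_comm (xl w M k b), Nat.xor_assoc, ← Nat.xor_assoc (H16.get w M k), Nat.xor_self, Nat.zero_xor]

theorem xl_two_pow {w M k i : ℕ} : xl w M k (2 ^ i) = if i < k then H16.get w M i else 0 := by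
  induction k with
  | zero => rfl
  | succ k ih =>
    rw [xl_succ, ih, Nat.testBit_two_pow]
    rcases lt_trichotomy i k with h | rfl | h
    · simp [h, h.ne, h.le, Nat.lt_succ_iff]
    · simp
    · simp [h.ne', h.not_gt, Nat.lt_succ_iff, h.not_ge]

theorem xl_bit {w M k i : ℕ} (h : i < k) : xl w M k (2 ^ i) = H16.get w M i := by rw [xl_two_pow, if_pos h]

theorem xl_lt {w M k n : ℕ} (h : ∀ i < k, H16.get w M i < 2 ^ n) (x : ℕ) : xl w M k x < 2 ^ n := by
  induction k with
  | zero => exact Nat.two_pow_pos n
  | succ k ih =>
    have := ih fun i hi => h i (by omega)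
    rw [xl_succ]; split_ifs
    exacts [Nat.xor_lt_two_pow this (h k (by omega)), this]

theorem Cg.add {a b c d : L} (h : Cg a b) (h' : Cg c d) : Cg (a + c) (b + d) := by
  obtain ⟨u, rfl⟩ := h; obtain ⟨w, rfl⟩ := h'; exact ⟨u + w, by abel⟩

/-- a basis of the lattice -/
def bB : ℕ := nat_lit 0x8b6318c6318c6318c6318c6318c631a521084210842108421084210842107be6f7bdef7bdef7bdef7bdef7bdef74a50839d084210841d084210839d084210a4210842908421084210842109c62f7c5ef8c5ef8c6318c62f8c631939d0839d084210842508421084a5093a1074a0e841d08425084250842107be337be317c6317bdf18bdef7bdef8c6318c62d8c6318c6318c6318c631839d284212841ce84210841d08420e742108425074250841d08425283a10942107425274a108421284250842107c6317bdf17be317bdef7bdaf7bdf18520c84210842108421084210842107c6318c5ef8be317bdef8c5ef7bdb1949d08421283a1084210741d08425084a107420e73a5284210842108425073a0e9421084a0e842108425094210741ce84a50849d084210842508421084a1284210839d0841d0841d0839d08c62f7bdf18be317c62f7bdaf7c62f741d09421294210841d084212841d08be317c62f7bdef8c6318c6318c671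

/-- the dual basis -/
def bD : ℕ := nat_lit 0x8be2f8c5f17c5f38bdef8c5f18be2f8c6318c5f17c5f17bded8be318c62f8be2f8c5ef7c5f17bdb17c5f17c62f7c6318c5b17c5f17c6317c6317be2f84210949d07421084a1283a10742108bdef7c5ef8c62f8c5b18bdef7be318bdef8bdef7c5f16c5f18c5f17be3184210849d0842107425283a1283a1084210842109421073a1293a1083a50842108420e84a1074212749d28421084210849d074a1084210849d28420e8bdef7be2f8c62f7c5ef8c5f17b63184210842107421074a1274a10849d084210849d074a1084210839d2842128420e842108421083a52941d283a1084210842108421064210852108421084210842109421073a1274a1083a5084210849d074212841d08421094a0e8421084210842106421084210a421084210949d0749d2749d084210742508bdef8be2f7bdf17cdf18bdef8bdf184210842108421065210842108421084210849d084210741d283a1284a107c6318c5f17bdef6c6318be317c631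

noncomputable def bv (k : ℕ) : L := vL (H16.get 120 bB k)

noncomputable def dv (k : ℕ) : L := vL (H16.get 120 bD k)

theorem coe_bv {k : ℕ} (hk : k < 24) : (bv k : V) = vec (H16.get 120 bB k) :=
  coe_vL (allB_spec (f := fun k => isLv (H16.get 120 bB k)) (by decide +kernel) k hk)

theorem coe_dv {k : ℕ} (hk : k < 24) : (dv k : V) = vec (H16.get 120 bD k) :=
  coe_vL (allB_spec (f := fun k => isLv (H16.get 120 bD k)) (by decide +kernel) k hk)

theorem eight_eq (v : V) : (8 : ℤ) • v = ∑ k ∈ Finset.range 24, dotInt (dv k : V) v • (bv k : V) := by
  have h : ∀ a c : GolayPt, ∑ k ∈ Finset.range 24, vec (H16.get 120 bD k) a * vec (H16.get 120 bB k) c =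
      if a = c then 8 else 0 := by decide +kernel
  funext c
  rw [Finset.sum_apply, Finset.sum_congr rfl fun k hk => by
    rw [Pi.smul_apply, coe_bv (Finset.mem_range.mp hk), coe_dv (Finset.mem_range.mp hk), smul_eq_mul, dotInt,
      Finset.sum_mul], Finset.sum_comm]
  simp only [mul_right_comm _ (v _), ← Finset.sum_mul, h]
  simp

/-- the coordinates modulo two -/
noncomputable def kap (v : L) : ℕ := maskN 24 fun k => decide (¬ (16 : ℤ) ∣ dotInt (dv k : V) v)

theorem testBit_kap {v : L} {k : ℕ} : (kap v).testBit k = true ↔ k < 24 ∧ ¬ (16 : ℤ) ∣ dotInt (dv k : V) v := by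
  simp [kap, testBit_maskN]

theorem kap_lt (v : L) : kap v < 2 ^ 24 := lt_two_pow_of_bits fun _ h => (testBit_kap.mp h).1

theorem kap_add (v w : L) : kap (v + w) = kap v ^^^ kap w := Nat.eq_of_testBit_eq fun k => by
  rw [Bool.eq_iff_iff, testBit_kap, Nat.testBit_xor, Bool.xor_iff_ne, ne_eq, Bool.eq_iff_iff, testBit_kap,
    testBit_kap, AddSubgroup.coe_add, dot_add_right]
  have h1 := eight_dvd_dot (dv k).2 v.2
  have h2 := eight_dvd_dot (dv k).2 w.2
  omega

theorem cg_of_kap {v : L} (h : kap v = 0) : Cg v 0 := by
  have h1 : ∀ k < 24, (16 : ℤ) ∣ dotInt (dv k : V) v := fun k hk => by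
    by_contra hn
    simpa [h] using testBit_kap.mpr ⟨hk, hn⟩
  refine ⟨∑ k ∈ Finset.range 24, (dotInt (dv k : V) v / 16) • bv k, Subtype.ext
    (smul_right_injective V (show (8 : ℤ) ≠ 0 by norm_num) ?_)⟩
  beta_reduce
  rw [eight_eq, zero_add, ← Finset.sum_add_distrib, AddSubmonoidClass.coe_finsetSum, Finset.smul_sum]
  refine Finset.sum_congr rfl fun k hk => ?_
  rw [← add_smul, AddSubgroup.coe_zsmul, smul_smul]
  have := h1 k (Finset.mem_range.mp hk)
  congr 1; omega

theorem kap_eq_iff {v w : L} : kap v = kap w ↔ Cg v w := by
  constructor
  · intro h
    obtain ⟨u, e⟩ := cg_of_kap (v := v + w) (by rw [kap_add, h, Nat.xor_self])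
    exact ⟨u - w, by rw [zero_add] at e; rw [← sub_eq_zero] at e ⊢; rw [← e]; abel⟩
  · rintro ⟨u, rfl⟩; rw [kap_add, kap_add, Nat.xor_self, Nat.xor_zero]

theorem kap_zero : kap 0 = 0 := by simpa using kap_add 0 0

/-- a vector with given coordinates -/
noncomputable def io (x : ℕ) : L := ∑ k ∈ Finset.range 24, if x.testBit k then bv k else 0

theorem cg_sum {s : Finset ℕ} {f g : ℕ → L} (h : ∀ k, Cg (f k) (g k)) : Cg (∑ k ∈ s, f k) (∑ k ∈ s, g k) := by
  induction s using Finset.induction_on with
  | empty => exact Cg.refl _
  | insert a s ha ih => rw [Finset.sum_insert ha, Finset.sum_insert ha]; exact (h a).add ih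

theorem xl_io (g : Co0) : XL fun x => kap (g • io x) := fun a b => by
  rw [← kap_add, ← smul_add, kap_eq_iff, io, io, io, ← Finset.sum_add_distrib]
  refine (cg_sum fun k => ?_).smul g
  rw [Nat.testBit_xor]
  cases a.testBit k <;> cases b.testBit k <;> simp [Cg.refl]
  exact ⟨-bv k, by abel⟩

theorem io_two_pow {j : ℕ} (hj : j < 24) : io (2 ^ j) = bv j := by
  rw [io, Finset.sum_eq_single j (fun k _ hk => by simp [Nat.testBit_two_pow, hk.symm]) (by simp [hj])]
  simp

theorem dot_bit {f g : ℕ → ℕ} {x y : L} (hx : ∀ j < 24, (x : V) (gpt j) = (f j : ℤ) - 16)
    (hy : ∀ j < 24, (y : V) (gpt j) = (g j : ℤ) - 16) :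
    (∑ j ∈ Finset.range 24, f j * g j).testBit 3 = true ↔ ¬ (16 : ℤ) ∣ dotInt (x : V) y := by
  have h1 := eight_dvd_dot x.2 y.2
  have h2 : dotInt (x : V) y = ((∑ j ∈ Finset.range 24, f j * g j : ℕ) : ℤ) +
      16 * ∑ j ∈ Finset.range 24, (16 - (f j : ℤ) - g j) := by
    rw [dotInt, sum_gpt, Nat.cast_sum, Finset.mul_sum, ← Finset.sum_add_distrib]
    refine Finset.sum_congr rfl fun j hj => ?_
    rw [hx j (Finset.mem_range.mp hj), hy j (Finset.mem_range.mp hj)]; push_cast; ring
  rw [Nat.testBit_eq_decide_div_mod_eq, decide_eq_true_iff]
  omega

theorem vec_gpt (a : ℕ) {j : ℕ} (hj : j < 24) : vec a (gpt j) = (H16.get 5 a j : ℤ) - 16 := by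
  rw [vec, idx_gpt hj]

theorem sum_lt32 {f g : ℕ → ℕ} (hf : ∀ j < 24, f j < 32) (hg : ∀ j < 24, g j < 32) :
    ∑ j ∈ Finset.range 24, f j * g j < 2 ^ 32 :=
  (sum24_le (c := 1024) fun j hj => by have := hf j hj; have := hg j hj; nlinarith).trans_lt (by norm_num)

def bT : ℕ := nat_lit 0x11000000140000000f0000000e000000100000001300000012000000120000000f00000011000000100000000e000000120000000f000000100000000f00000012000000100000000e0000000e00000010000000110000000e000000110000000d000000140000000f0000001200000010000000110000000e0000000e0000000f000000110000000e000000100000001000000011000000140000001100000012000000120000000e000000100000001200000011000000100000000f0000001100000010000000130000001200000010000000110000000e0000001000000011000000110000000e00000010000000100000001100000010000000110000000e00000010000000100000000e00000010000000110000000e0000001100000011000000100000000f00000010000000100000000f00000010000000100000001300000011000000120000001000000010000000110000000c0000001100000010000000100000000e0000000e000000120000000f000000100000001100000011000000100000000f00000010000000140000000f000000100000000e0000000f00000011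00000010000000100000000e0000000f0000001000000011000000100000000e0000001200000010000000100000000f000000120000000f00000011000000100000000f0000000e00000010000000110000000e000000120000000f000000110000001000000010000000100000000f000000100000001100000010000000100000001000000012000000100000000f000000100000001100000011000000100000000f0000000e000000100000000f0000000e0000001000000011000000110000001000000012000000120000000f000000100000000f00000010000000100000001000000012000000100000000f000000100000001100000011000000100000000f00000010000000100000000f000000100000000e000000110000000d00000012000000100000001200000011000000100000000f000000120000000e00000010000000100000001000000011000000120000000f00000011000000100000000f00000010000000100000001100000010000000100000000f00000011000000100000000e0000000e0000000f0000001000000011000000100000000e00000010000000100000001000000011000000120000000f00000011000000100000000f000000100000001000000011000000100000001000000011000000110000001000000010000000120000000f000000100000000f0000000e0000000e00000012000000120000000e0000000f000000100000000f00000011000000100000000f00000010000000140000000f0000001000000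00e00000011000000110000000e00000012000000100000001100000010000000110000001000000012000000100000000e0000000e00000011000000100000000f00000011000000100000000f00000010000000100000000f000000100000001000000011000000110000000e000000100000001000000011000000100000001100000010000000120000000e000000100000001000000011000000100000000f00000011000000100000000f00000010000000100000001100000010000000100000000f000000110000001000000010000000100000000f000000100000000f00000010000000100000001000000010000000100000000f000000100000001100000011000000100000000f00000010000000100000001100000010000000100000000f000000110000001000000010000000100000000f000000100000000f000000100000001000000010000000100000001000000011000000100000001100000011000000100000000f0000000e000000100000001100000012000000120000000f00000011000000100000000e000000100000000f000000100000000f000000100000001000000010000000100000000e000000110000000e0000001100000011000000100000000f000000100000001000000011000000100000001000000011000000110000001000000010000000120000000f000000100000000f00000010000000100000001000000010000000100000000f000000100000001100000011000000100000000f000000100000001000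000011000000100000001000000011000000110000001000000010000000100000000f00000010000000110000000e000000100000001000000010000000100000000f000000100000001100000011000000100000000f00000010000000100000001100000010000000100000000f000000110000001000000010000000100000000f000000100000001100000010000000100000001000000010000000100000000f000000100000001100000011000000100000000f00000010000000100000001100000010000000120000000f000000110000000e00000012000000120000000d000000100000000f0000000e0000001000000012000000120000000e0000000d000000100000001100000011000000100000000f00000010000000100000000f00000010000000100000000f000000110000001000000012000000100000000f000000100000000f00000010000000100000001000000010000000100000000f000000120000001100000011000000100000000f00000010000000100000001100000010000000100000000f000000110000001000000010000000100000000f000000100000000f00000010000000100000001200000010000000100000000f000000100000001100000011000000100000000f0000000e000000100000001100000012000000100000000f00000011000000100000000e000000100000000f000000100000000f000000100000001000000010000000100000000e00000011000000100000001100000011000000100000000f0000000e000000100000001100000012000000100000000f000000110000001000000010000000100000000f000000100000000d000000120000001200000010000000100000000e000000110000000e0000001300000011000000100000000f00000010000000100000001100000010000000100000000f000000110000000e000000100000001000000011000000100000001100000010000000100000001000000010000000100000000f0000001000000011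

def dT : ℕ := nat_lit 0x1100000011000000110000000f000000100000001100000011000000100000001000000010000000100000001100000010000000100000001000000010000000100000001000000010000000100000001100000010000000100000000f0000000f000000110000000f00000011000000100000000f0000000f000000100000001000000010000000100000000f00000010000000100000001000000010000000100000001000000010000000100000000f00000010000000100000001100000011000000110000001100000011000000100000000f0000000f000000100000001000000010000000100000000f00000010000000100000001000000010000000100000001000000010000000100000000f0000001000000010000000110000000f000000110000000f00000011000000100000000f0000000f000000100000001000000010000000100000000f00000010000000100000000e00000010000000100000001000000010000000100000000f00000010000000100000001100000011000000110000001100000011000000120000000f00000011000000100000001000000010000000100000000f0000001000000010000000100000001000000010000000100000001000000012000000110000001000000010000000110000001100000011000000110000001100000012000000110000000f000000120000001000000010000000120000000f000000100000001200000010000000100000001000000012000000100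00000120000000f0000001000000012000000110000000f0000000f0000000f0000000d0000000e0000000f0000000f0000000e00000010000000100000000e00000011000000100000000e0000001000000010000000100000000e000000100000000e00000011000000100000000e0000000f00000011000000110000000f00000011000000100000000f0000000f00000010000000100000000e000000100000000f00000010000000100000001000000010000000100000001000000010000000100000000f0000001000000010000000110000000f0000000f0000000f0000000f0000000e000000110000000f0000001000000012000000100000000e000000110000000e0000000e0000001000000010000000120000000e000000100000000e0000000f00000010000000100000000f00000011000000110000001100000011000000100000001100000011000000100000001000000012000000120000001100000010000000120000001000000010000000100000001000000010000000120000000f00000010000000100000000f0000000f0000000f0000000f0000000f00000010000000110000000f0000001000000010000000100000001000000011000000100000001000000010000000100000001000000010000000100000000e0000000f00000010000000100000000f00000013000000110000001100000011000000100000000f00000011000000100000001000000010000000100000000f00000010000000100000001000000010000000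100000001200000010000000120000001100000010000000100000000f000000110000000f0000000f0000000f00000010000000110000000d0000000e0000000e0000000e000000100000000f0000000e00000010000000100000000c0000000e000000100000000c0000000e0000000f0000000c0000000e0000000d0000000f0000000f0000000f00000011000000120000001100000011000000100000000e00000010000000100000001100000012000000100000000e000000100000000e000000100000001000000012000000130000001400000010000000110000000f0000000f0000000d00000011000000100000000d0000000f000000120000001000000010000000100000000f00000010000000100000001200000010000000100000000e000000100000000e0000000f000000100000000e000000110000000f0000000d0000001100000011000000120000001100000011000000120000001200000012000000100000000f00000012000000100000001200000010000000120000001000000010000000100000001100000010000000120000001100000011000000110000000f0000000f00000010000000110000001100000010000000120000000e00000010000000110000000e0000001000000012000000100000000e00000010000000100000001000000011000000100000001000000011000000110000000f00000011000000110000000e0000000f000000110000000e0000000e000000120000001200000011000000120000000e000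0001000000014000000120000001000000010000000100000000f000000100000000e0000000f0000000f000000110000000f00000011000000100000000f0000000f00000010000000100000000e0000000e0000000f000000100000000e0000000e00000010000000100000001000000010000000100000000f00000010000000100000001100000011000000110000001100000011000000100000000f00000011000000120000001000000012000000120000001100000010000000120000001200000010000000100000001000000010000000100000000f00000010000000120000001100000011000000110000000f0000000f0000000e0000000f0000000f000000100000001000000010000000100000000f000000100000001000000010000000100000001000000012000000140000000e0000001100000010000000100000000f0000000f00000011000000110000000f000000100000000f0000000f0000000e0000000e00000010000000100000000d00000012000000100000000e000000100000000e0000001200000010000000100000000f0000001000000012000000110000001100000011000000110000001100000010000000110000001100000010000000120000001000000010000000110000000e000000100000001000000010000000120000001000000010000000120000000f0000001000000010000000110000000f0000000f0000000f0000000f0000001000000011000000110000001000000010000000100000000e0000001100000010000000120000001000000010000000100000000e000000100000001000000011000000100000001000000011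

noncomputable def bX (j : ℕ) : ℕ := H16.get 768 bT j

noncomputable def dX (j : ℕ) : ℕ := H16.get 768 dT j

theorem tabIs_bX : TabIs 32 24 bX fun j => H16.get 32 (bX j) :=
  ⟨fun j _ => (simd_get (F := 32) (n := 24) (get_lt 768 _ _)).symm, by decide +kernel⟩

theorem tabIs_dX : TabIs 32 24 dX fun j => H16.get 32 (dX j) :=
  ⟨fun j _ => (simd_get (F := 32) (n := 24) (get_lt 768 _ _)).symm, by decide +kernel⟩

theorem bdX_eq : ∀ k < 24, ∀ j < 24, H16.get 32 (bX j) k = H16.get 5 (H16.get 120 bB k) j ∧
    H16.get 32 (dX j) k = H16.get 5 (H16.get 120 bD k) j := by decide +kernel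

/-- the coordinates of a packed vector -/
noncomputable def kv (a : ℕ) : ℕ :=
  force (lin (H16.get 5 a) dX) fun S => maskN 24 fun k => tb S (Nat.add (Nat.mul 32 k) 3)

theorem kap_vec {v : L} {a : ℕ} (hv : (v : V) = vec a) : kap v = kv a := Nat.eq_of_testBit_eq fun k => by
  rw [Bool.eq_iff_iff, testBit_kap, kv, force_eq, testBit_maskN]
  refine and_congr_right fun hk => ?_
  have h := testBit_get 32 (lin (H16.get 5 a) dX) k 3
  rw [lin_eq tabIs_dX.1, get_simd (fun k hk => sum_lt32 (fun j _ => get_lt _ _ _)
    fun j hj => tabIs_dX.2 j hj k hk) hk, ← lin_eq tabIs_dX.1] at h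
  rw [dot_comm, ← dot_bit (f := H16.get 5 a) (g := fun j => H16.get 32 (dX j) k) (fun j hj => by rw [hv, vec_gpt _ hj])
    (fun j hj => by rw [coe_dv hk, vec_gpt _ hj, (bdX_eq k hk j hj).2]), h, tb_eq]
  simp

theorem kap_io {x : ℕ} (hx : x < 2 ^ 24) : kap (io x) = x := by
  have h : ∀ j < 24, kv (H16.get 120 bB j) = 2 ^ j := by decide +kernel
  simpa using (xl_io 1).ext xl_id (fun j hj => by rw [one_smul, io_two_pow hj, kap_vec (coe_bv hj), h j hj]) x hx

theorem cg_io (v : L) : Cg v (io (kap v)) := kap_eq_iff.mp (kap_io (kap_lt v)).symm

/-- `M` is the matrix of `g` modulo two -/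
def K2Is (g : Co0) (M : ℕ) : Prop := ∀ v, kap (g • v) = xl 32 M 24 (kap v)

theorem k2Is_of {g : Co0} {M : ℕ} (h : ∀ k < 24, kap (g • bv k) = H16.get 32 M k) : K2Is g M := fun v => by
  rw [kap_eq_iff.mpr ((cg_io v).smul g)]
  exact (xl_io g).ext (xl_XL _ _ _) (fun j hj => by rw [io_two_pow hj, xl_bit hj, h j hj]) _ (kap_lt v)

def o32 : ℕ := nat_lit 0x10000000100000001000000010000000100000001000000010000000100000001000000010000000100000001000000010000000100000001000000010000000100000001000000010000000100000001000000010000000100000001

theorem o32_eq : o32 = simd 32 24 fun _ => 1 := by decide +kernel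

noncomputable def chk2 (m M : ℕ) : Bool :=
  force (pk 768 24 (imgY o32 16 m bX)) fun T =>
    andB (appChk o32 16 m bX fun j => fld o32 (H16.get 768 T j) 0 31) (andB (Nat.beq (fld o32 M 24 255) 0)
      (allB 24 fun i => Nat.beq (fld o32 (lin (H16.get 5 (H16.get 120 bD i)) fun j => fld o32 (H16.get 768 T j) 0 31) 3 1)
        (fld o32 M i 1)))

theorem MIs.k2 {g : Co0} {m M : ℕ} (hg : MIs g m) (h : chk2 m M = true) : K2Is g M := by
  simp only [chk2, force_eq, andB_iff, allB_iff, Nat.beq_eq] at h
  generalize pk 768 24 (imgY o32 16 m bX) = T at h
  obtain ⟨h1, h2, h3⟩ := h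
  have hY : TabIs 32 24 (fun j => fld o32 (H16.get 768 T j) 0 31) _ :=
    ⟨fun _ _ => fld_eq o32_eq (w := 5) (by omega) rfl _, fun _ _ _ _ => Nat.mod_lt _ (by norm_num)⟩
  refine k2Is_of fun k hk => Nat.eq_of_testBit_eq fun i => ?_
  have h4 := appChk_spec (by norm_num) o32_eq tabIs_bX hY le_rfl h1 hk
  rw [show tv 16 (fun j => H16.get 32 (bX j)) k = bv k from funext fun p => by
    rw [coe_bv hk, tv, vec, (bdX_eq k hk _ (idx_lt p)).1]; rfl, hg.tm] at h4
  have h5 := smul_right_injective V (show (8 : ℤ) ≠ 0 by norm_num) h4
  rw [Bool.eq_iff_iff, testBit_kap, Nat.testBit_eq_decide_div_mod_eq, decide_eq_true_iff]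
  by_cases hi : i < 24
  · have h6 := h3 i hi
    rw [lin_eq hY.1, fld_simd o32_eq (s := 3) (w := 1) (c := 1) (by norm_num) rfl (fun k hk =>
      sum_lt32 (fun j _ => get_lt 5 _ _) fun j hj => hY.2 j hj k hk),
      fld_eq o32_eq (s := i) (w := 1) (c := 1) (by omega) rfl] at h6
    have h7 := simd_inj (fun _ _ => (Nat.mod_lt _ (by norm_num)).trans (by norm_num))
      (fun _ _ => (Nat.mod_lt _ (by norm_num)).trans (by norm_num)) h6 k hk
    rw [← dot_bit (fun j hj => by rw [coe_dv hi, vec_gpt _ hj]) (fun j hj => by rw [h5, tv_gpt _ _ _ hj]; rfl),
      Nat.testBit_eq_decide_div_mod_eq, decide_eq_true_iff, and_iff_right hi, ← Nat.shiftRight_eq_div_pow _ i]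
    simp only [pow_one] at h7
    rw [h7]
  · rw [fld_eq o32_eq (s := 24) (w := 8) (c := 255) (by omega) rfl] at h2
    have h7 := simd_inj (fun _ _ => (Nat.mod_lt _ (by norm_num)).trans (by norm_num))
      (fun _ _ => by norm_num) (h2.trans (simd_zero 32 24).symm) k hk
    have h8 := get_lt 32 M k
    rw [Nat.shiftRight_eq_div_pow] at h7
    rw [Nat.div_eq_of_lt (lt_of_lt_of_le (by omega) (Nat.pow_le_pow_right (by norm_num) (not_lt.mp hi)))]
    simp [hi]

/-- the class with given coordinates -/
def cpt (x : ℕ) : Set L := {v | kap v = x}

theorem smul_cpt (g : Co0) (v : L) : g • cpt (kap v) = cpt (kap (g • v)) := by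
  ext w
  rw [Set.mem_smul_set_iff_inv_smul_mem]
  simp only [cpt, Set.mem_ofPred_eq, kap_eq_iff]
  exact ⟨fun h => by simpa using h.smul g, fun h => by simpa using h.smul g⁻¹⟩

theorem cpt_inj {x y : ℕ} (hx : x < 2 ^ 24) (h : cpt x = cpt y) : x = y :=
  (kap_io hx).symm.trans (h.le (kap_io hx))

theorem cpt_eq_iff {v w : L} : cpt (kap v) = cpt (kap w) ↔ Cg v w :=
  ⟨fun h => kap_eq_iff.mp (cpt_inj (kap_lt v) h), fun h => by rw [kap_eq_iff.mpr h]⟩

theorem K2Is.cpt {g : Co0} {M x : ℕ} (h : K2Is g M) (hx : x < 2 ^ 24) : g • cpt x = cpt (xl 32 M 24 x) := by
  rw [← kap_io hx, smul_cpt, h]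

theorem neg1_cpt {x : ℕ} (hx : x < 2 ^ 24) : neg1 • cpt x = cpt x := by
  rw [← kap_io hx, smul_cpt, neg1_smul, cpt_eq_iff.mpr (cg_neg _)]

theorem stab_cpt_e8 (i : GolayPt) : stabilizer Co0 (cpt (kap (e8 i))) = NN := by
  ext g; rw [mem_stabilizer_iff, smul_cpt, cpt_eq_iff, cg_e8_iff]

/-- the points of the subspace spanned by the `k` vectors `W` -/
noncomputable def fpt (W k y : ℕ) : Set L := cpt (xl 32 W k y)

/-- `W` has the left inverse `C` -/
noncomputable def wChk (W k C : ℕ) : Bool :=
  allB k fun i => andB (Nat.blt (H16.get 32 W i) 16777216) (Nat.beq (xl 32 C 24 (H16.get 32 W i)) (bit i))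

theorem wChk_lt {W k C : ℕ} (h : wChk W k C = true) (y : ℕ) : xl 32 W k y < 2 ^ 24 :=
  xl_lt (fun i hi => Nat.blt_eq.mp (andB_iff.mp (allB_spec h i hi)).1) y

theorem inj_fpt {W k C : ℕ} (h : wChk W k C = true) : Inj (fpt W k) (2 ^ k) := fun i hi j hj e => by
  have h1 := ((xl_XL 32 C 24).comp (xl_XL 32 W k)).ext xl_id (n := k) fun i hi => by
    rw [xl_bit hi, ← bit_eq]; exact Nat.beq_eq ▸ (andB_iff.mp (allB_spec h i hi)).2
  rw [← h1 i hi, ← h1 j hj, cpt_inj (wChk_lt h i) e]

/-- `M'` is the matrix of `M` on the subspace -/
noncomputable def subChk2 (W k M M' : ℕ) : Bool :=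
  allB k fun i => andB (Nat.blt (H16.get 32 M' i) (Nat.pow 2 k))
    (Nat.beq (xl 32 M 24 (H16.get 32 W i)) (xl 32 W k (H16.get 32 M' i)))

theorem K2Is.rep {g : Co0} {W k C M M' : ℕ} (hg : K2Is g M) (h : wChk W k C = true) (h' : subChk2 W k M M' = true) :
    Rep (fpt W k) (2 ^ k) g (xl 32 M' k) := fun y hy => by
  refine ⟨xl_lt (fun i hi => Nat.blt_eq.mp (andB_iff.mp (allB_spec h' i hi)).1) y, ?_⟩
  rw [fpt, hg.cpt (wChk_lt h y), fpt]
  exact congrArg LL.cpt (((xl_XL 32 M 24).comp (xl_XL 32 W k)).ext ((xl_XL 32 W k).comp (xl_XL 32 M' k))
    (fun i hi => by rw [xl_bit hi, xl_bit hi]; exact Nat.beq_eq ▸ (andB_iff.mp (allB_spec h' i hi)).2) y hy)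

/-- the subspace is the fixed space of `M` -/
noncomputable def fixChk2 (W k C S M : ℕ) : Bool :=
  andB (allB k fun i => Nat.beq (xl 32 M 24 (H16.get 32 W i)) (H16.get 32 W i)) (allB 24 fun j =>
    andB (Nat.blt (H16.get 32 C j) (Nat.pow 2 k))
      (Nat.beq (Nat.xor (xl 32 W k (H16.get 32 C j)) (xl 32 S 24 (Nat.xor (H16.get 32 M j) (bit j)))) (bit j)))

theorem K2Is.fix {g : Co0} {W k C S M : ℕ} (hg : K2Is g M) (h : fixChk2 W k C S M = true) (v : L) :
    Cg (g • v) v ↔ ∃ y < 2 ^ k, kap v = xl 32 W k y := by
  simp only [fixChk2, andB_iff, allB_iff, Nat.beq_eq, Nat.blt_eq] at h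
  rw [← kap_eq_iff, hg]
  constructor
  · intro e
    refine ⟨xl 32 C 24 (kap v), xl_lt (fun j hj => (h.2 j hj).1) _, ?_⟩
    have := (((xl_XL 32 W k).comp (xl_XL 32 C 24)).xor ((xl_XL 32 S 24).comp ((xl_XL 32 M 24).xor xl_id))).ext xl_id
      (fun j hj => by rw [xl_bit hj, xl_bit hj, ← bit_eq]; exact (h.2 j hj).2) _ (kap_lt v)
    rw [e, Nat.xor_self, (xl_XL _ _ _).zero, Nat.xor_zero] at this
    exact this.symm
  · rintro ⟨y, hy, e⟩
    rw [e]
    exact ((xl_XL 32 M 24).comp (xl_XL 32 W k)).ext (xl_XL 32 W k) (fun i hi => by rw [xl_bit hi, h.1 i hi]) y hy

end Cfsg.Agent.LL
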