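import Cfsg.Agent.H21.Leech14
import Cfsg.Agent.H16.Targ

/-! The permutation group induced by a not necessarily faithful action. -/

set_option autoImplicit false
set_option linter.style.haveILetI false

namespace Cfsg.Agent.LL

open Cfsg Cfsg.Agent.H16 MulAction
open scoped Pointwise

variable {G Ω : Type*} [Group G] [MulAction G Ω] {pt : ℕ → Ω} {n w : ℕ}

theorem exists_act_hom [NeZero n] (hinj : Inj pt n) {K : Subgroup G}
    (h : ∀ g ∈ K, ∀ i < n, ∃ j < n, g • pt i = pt j) : ∃ α : K →* Equiv.Perm (Fin n),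
      ∀ (g : K) f, Rep pt n (g : G) f ↔ Rep (finPt n) n (α g) f := by
  have h' : ∀ (g : K) (i : Fin n), ∃ j : Fin n, (g : G) • pt i = pt j := fun g i =>
    let ⟨j, hj, e⟩ := h g g.2 i i.2; ⟨⟨j, hj⟩, e⟩
  choose F hF using h'
  have hi : ∀ i j : Fin n, pt i = pt j → i = j := fun i j e => Fin.ext (hinj _ i.2 _ j.2 e)
  let F' : K →* Function.End (Fin n) :=
    { toFun := F
      map_one' := funext fun i => hi _ _ ((hF 1 i).symm.trans (one_smul _ _))
      map_mul' := fun a b => funext fun i => hi _ _ (by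
        change _ = pt (F a (F b i))
        rw [← hF, ← hF, ← hF, Subgroup.coe_mul, mul_smul]) }
  have hv : ∀ i < n, ((finPt n i : Fin n) : ℕ) = i := fun i hi => Nat.mod_eq_of_lt hi
  refine ⟨F'.toHomPerm, fun g f => forall₂_congr fun i hi' => and_congr_right fun hf => ?_⟩
  change _ ↔ F g _ = _
  have := hF g (finPt n i)
  rw [hv i hi'] at this
  rw [this]
  exact ⟨fun e => hi _ _ (by rw [e, hv _ hf]), fun e => by rw [e, hv _ hf]⟩

theorem inK_sel (hw : n ≤ 2 ^ w) {S SG : List ℕ} {prog : List (List ℕ)} {sel : List ℕ}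
    (hp : sel.map (nth (pid w n) (slp w n prog S)) = SG) {K : Subgroup G} (h : ∀ p ∈ S, InK pt n K (H16.get w p)) :
    ∀ p ∈ SG, InK pt n K (H16.get w p) := by
  intro p hp'
  obtain ⟨i, -, rfl⟩ := List.mem_map.mp (hp ▸ hp')
  exact InK.nth hw (InK.slp hw prog h) i

theorem quot_perm [NeZero n] (hw : n ≤ 2 ^ w) (hinj : Inj pt n) {K Z : Subgroup G} [Finite K] (hZ : Z ≤ K)
    (hf : ∀ g ∈ Z, ∀ i < n, g • pt i = pt i) {S SG B : List ℕ} (hS : ∀ p ∈ S, InK pt n K (H16.get w p))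
    {prog : List (List ℕ)} {sel : List ℕ} (hp : sel.map (nth (pid w n) (slp w n prog S)) = SG) {N : ℕ}
    (hN : Nat.card K ≤ N * Nat.card Z) (hB : allL B (fun b => Nat.blt b n) = true) (hl : lbChain w n B SG = N) :
    ∃ (P : Subgroup (Equiv.Perm (Fin n))) (α : K →* P), Function.Surjective α ∧ (∀ g : K, α g = 1 ↔ (g : G) ∈ Z) ∧
      Nat.card P = N ∧ Gen (finPt n) n w P S ∧ Gen (finPt n) n w P SG ∧ Nat.card K = N * Nat.card Z ∧
      ∀ (g : K) f, Rep pt n (g : G) f ↔ Rep (finPt n) n (α g : Equiv.Perm (Fin n)) f := by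
  have h2 := lbChain_mul_le hinj B (lt_of_allL hB) (K ⊓ stabilizer G (ptSet pt n (2 ^ n - 1))) (inK_sel hw hp fun p hp =>
    let ⟨g, hg, hr⟩ := hS p hp
    ⟨g, ⟨hg, hr.mem_stabilizer_ptSet fun i hi _ => by simpa using (hr i hi).1⟩, hr⟩) Z (fun g hg =>
      ⟨hZ hg, Rep.mem_stabilizer_ptSet (f := fun i => i) (fun i hi => ⟨hi, hf g hg i hi⟩) fun _ _ h => h⟩) hf
  rw [hl] at h2
  have h3 := Subgroup.eq_of_le_of_card_ge (inf_le_left : K ⊓ stabilizer G (ptSet pt n (2 ^ n - 1)) ≤ K) (hN.trans h2)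
  obtain ⟨α, hα⟩ := exists_act_hom hinj (K := K) fun g hg i hi => by
    have h2 := mem_stabilizer_iff.mp (h3.ge hg).2
    obtain ⟨j, hj, -, e⟩ : g • pt i ∈ ptSet pt n (2 ^ n - 1) := by
      rw [← h2]; exact Set.smul_mem_smul_set (mem_ptSet_full hi)
    exact ⟨j, hj, e.symm⟩
  have h4 : ∀ p ∈ S, InK (finPt n) n α.range (H16.get w p) := fun p hp =>
    let ⟨g, hg, hr⟩ := hS p hp; ⟨_, ⟨⟨g, hg⟩, rfl⟩, (hα ⟨g, hg⟩ _).mp hr⟩
  have h5 := lbChain_le (inj_finPt n) B (lt_of_allL hB) _ (inK_sel hw hp h4)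
  have h6 : Z.subgroupOf K ≤ α.ker := fun g hg => faith_finPt n ⊤ _ trivial fun i hi =>
    (((hα g fun i => i).mp fun i hi => ⟨hi, hf g hg i hi⟩) i hi).2
  have h7 := Subgroup.card_le_of_le h6
  have h8 := α.ker.card_mul_index
  rw [Subgroup.index_ker] at h8
  rw [Nat.card_congr (Subgroup.subgroupOfEquivOfLe hZ).toEquiv] at h7
  have h9 : 0 < Nat.card α.range := Nat.card_pos
  have h10 : 0 < Nat.card α.ker := Nat.card_pos
  rw [hl] at h5
  have h11 : Nat.card α.range = N := le_antisymm (by nlinarith) h5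
  rw [h11] at h8 h9
  have h12 : Nat.card α.ker = Nat.card Z := le_antisymm (by nlinarith) h7
  have h13 := Subgroup.eq_of_le_of_card_ge h6 (by
    rw [h12, Nat.card_congr (Subgroup.subgroupOfEquivOfLe hZ).toEquiv])
  have h14 := perm_pack hw (inj_finPt n) h4 hp h11 hB hl
  refine ⟨α.range, α.rangeRestrict, α.rangeRestrict_surjective, fun g => ?_, h11, h14.1, h14.2.1,
    by rw [← h8, h12, mul_comm], hα⟩
  rw [Subtype.ext_iff, ← Subgroup.mem_subgroupOf, h13]; rfl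

/-- a transitive group of odd degree has no normal 2-subgroup -/
theorem two_core_odd [NeZero n] (hn : Odd n) {P : Subgroup (Equiv.Perm (Fin n))} {S : List ℕ}
    (hS : Gen (finPt n) n w P S) (ho : orbF (H16.get w) n S 0 = 2 ^ n - 1) (T : Subgroup P) (hT : T.Normal)
    (h2 : IsPGroup 2 T) : T = ⊥ := by
  haveI : Fact (Nat.Prime 2) := ⟨Nat.prime_two⟩
  obtain ⟨x, hx⟩ := h2.nonempty_fixed_point_of_prime_not_dvd_card (Fin n) (by
    rw [Nat.card_eq_fintype_card, Fintype.card_fin]; exact hn.not_two_dvd_nat)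
  have h1 := Gen.orbit_full hS (Nat.pos_of_neZero n) ho
  have h3 : ∀ y : Fin n, y ∈ orbit P (finPt n 0) := fun y => by
    obtain ⟨i, hi, rfl⟩ := surj_finPt n y
    rw [h1]; exact mem_ptSet_full hi
  refine eq_bot_iff.mpr fun t ht => Subtype.ext (Equiv.ext fun y => ?_)
  obtain ⟨g, hg⟩ := (orbit_eq_iff.mpr (h3 x)).ge (h3 y)
  have := hx ⟨_, hT.conj_mem t ht g⁻¹⟩
  change (g⁻¹ * t * g⁻¹⁻¹) • x = x at this
  rw [inv_inv, mul_smul, mul_smul, inv_smul_eq_iff] at this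
  rw [← hg]; exact this

/-- a table of labels -/
noncomputable def subRep (F : ℕ → ℕ → ℕ) (n w T p q : ℕ) : Bool :=
  allN n fun i => force (H16.get w q i) fun j => andB (Nat.blt j n) (Nat.beq (F p (H16.get 16 T i)) (H16.get 16 T j))

noncomputable def subOk (N n T : ℕ) : Bool :=
  andB (incr n (H16.get 16 T)) (allN n fun i => Nat.blt (H16.get 16 T i) N)

theorem inj_sub {N T : ℕ} (hinj : Inj pt N) (h : subOk N n T = true) : Inj (fun i => pt (H16.get 16 T i)) n := by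
  simp only [subOk, andB_iff, allN_iff, Nat.blt_eq] at h
  exact fun i hi j hj e => incr_inj h.1 hi hj (hinj _ (h.2 i hi) _ (h.2 j hj) e)

theorem Rep.sub {N T p q : ℕ} {F : ℕ → ℕ → ℕ} (h : subOk N n T = true) {g : G} (hr : Rep pt N g (F p))
    (hc : subRep F n w T p q = true) : Rep (fun i => pt (H16.get 16 T i)) n g (H16.get w q) := by
  simp only [subOk, subRep, andB_iff, allN_iff, Nat.blt_eq, force_eq, Nat.beq_eq] at h hc
  exact fun i hi => ⟨(hc i hi).1, by rw [(hr _ (h.2 i hi)).2, (hc i hi).2]⟩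

theorem inK_sub {N T : ℕ} {F : ℕ → ℕ → ℕ} (h : subOk N n T = true) {K : Subgroup G} {PQ : List (ℕ × ℕ)}
    (hS : ∀ p ∈ PQ.map Prod.fst, InK pt N K (F p)) (hc : allP PQ (subRep F n w T) = true) :
    ∀ q ∈ PQ.map Prod.snd, InK (fun i => pt (H16.get 16 T i)) n K (H16.get w q) := fun q hq => by
  obtain ⟨e, he, rfl⟩ := List.mem_map.mp hq
  obtain ⟨g, hg, hr⟩ := hS _ (List.mem_map_of_mem he)
  exact ⟨g, hg, Rep.sub h hr (allP_iff.mp hc e he)⟩

end Cfsg.Agent.LL
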